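import Mathlib
import Cfsg.Agent.S2798
import Cfsg.Agent.Lib.Invol.BenderCover.Main
import Cfsg.Agent.Lib.Invol.SPEmbedded
import Cfsg.Agent.Lib.Invol.Sylow
import Cfsg.Agent.Lib.Invol.Basic
import Cfsg.Agent.Lib.Grp.Cores

/-!
# Involutions in groups with a strongly embedded subgroup

With two commuting involutions, an involution commutes with every 2-subgroup containing it.
-/

set_option autoImplicit false
set_option linter.style.haveILetI false

namespace Cfsg.Agent.Fus.UniqueLocal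

open Subgroup

universe u v

/-- In a group with torus data an involution is central in every 2-subgroup containing it. -/
theorem commute_of_torusSylow {Q : Type v} [Group Q] [Finite Q] (hQ : Invol.BenderCover.TorusSylow Q)
    {S : Subgroup Q} (hS : IsPGroup 2 S) {a r : Q} (ha : a ∈ S) (ha2 : a * a = 1) (hr : r ∈ S) :
    Commute a r := by
  haveI : Fact (Nat.Prime 2) := ⟨Nat.prime_two⟩
  obtain ⟨Pb, V, hp, hi, -, -, hVc, hinv, -⟩ := hQ
  obtain ⟨g, hg⟩ := Invol.exists_conj_subset_sylow hS (hp.toSylow hi)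
  have h1 : g * a * g⁻¹ ∈ Pb := hg a ha
  have h2 : g * r * g⁻¹ ∈ Pb := hg r hr
  have h3 : g * a * g⁻¹ ∈ V := hinv _ h1 (by
    calc g * a * g⁻¹ * (g * a * g⁻¹) = g * (a * a) * g⁻¹ := by group
      _ = 1 := by rw [ha2, mul_one, mul_inv_cancel])
  exact (Commute.conj_iff g).1 (hVc _ h3 _ h2)

/-- The same in a group with a strongly embedded subgroup and two commuting involutions. -/
theorem commute_of_stronglyEmbedded {X : Type u} [Group X] [Finite X] {Y : Subgroup X}
    (hY : Cfsg.IsStronglyEmbedded Y) {a b : X} (ha : orderOf a = 2) (hb : orderOf b = 2)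
    (hab : Commute a b) (hne : a ≠ b) {S : Subgroup X} (hS : IsPGroup 2 S) (haS : a ∈ S) {r : X}
    (hr : r ∈ S) : Commute a r := by
  haveI : Fact (Nat.Prime 2) := ⟨Nat.prime_two⟩
  haveI hOn : (Cfsg.pPrimeCore 2 X).Normal := Grp.pPrimeCore_isNormal
  have hSP : Cfsg.IsStronglyPEmbedded 2 Y := Invol.isStronglyPEmbedded_iff.2
    ⟨even_iff_two_dvd.1 hY.2.1, hY.1, fun g hg => fun h =>
      Nat.not_even_iff_odd.2 (hY.2.2 g hg) (even_iff_two_dvd.2 h)⟩
  rcases S2798.result Y hSP with h | h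
  · exact absurd ((h a ha).2 b (mem_centralizer_singleton_iff.2 hab.symm.eq) hb).symm hne
  · have hQ := Invol.BenderCover.torusSylow_bender h
    let π := QuotientGroup.mk' (Cfsg.pPrimeCore 2 X)
    have hSbar : S.map π ≤ Cfsg.pElementClosure 2 (⊤ : Subgroup (X ⧸ Cfsg.pPrimeCore 2 X)) := by
      intro y hy
      exact subset_closure ⟨mem_top _, by
        obtain ⟨k, hk⟩ := IsPGroup.iff_orderOf.1 (hS.map π) ⟨y, hy⟩
        exact ⟨k, by rwa [Subgroup.orderOf_mk] at hk⟩⟩
    set Lcl := Cfsg.pElementClosure 2 (⊤ : Subgroup (X ⧸ Cfsg.pPrimeCore 2 X)) with hL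
    have h2 := commute_of_torusSylow hQ (S := (S.map π).subgroupOf Lcl) ((hS.map π).comap_subtype (K := Lcl))
      (a := ⟨π a, hSbar ⟨a, haS, rfl⟩⟩) (r := ⟨π r, hSbar ⟨r, hr, rfl⟩⟩) ⟨a, haS, rfl⟩
      (Subtype.ext (by
        show π a * π a = 1
        rw [← map_mul, Invol.mul_self_of_orderOf_two ha, map_one])) ⟨r, hr, rfl⟩
    have h3 : a * r * a⁻¹ * r⁻¹ ∈ Cfsg.pPrimeCore 2 X := by
      rw [← QuotientGroup.eq_one_iff]
      have h4 : π a * π r = π r * π a := congrArg Subtype.val h2.eq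
      show π (a * r * a⁻¹ * r⁻¹) = 1
      rw [map_mul, map_mul, map_mul, map_inv, map_inv, h4]
      group
    have h5 : a * r * a⁻¹ * r⁻¹ ∈ S := mul_mem (mul_mem (mul_mem haS hr) (inv_mem haS)) (inv_mem hr)
    obtain ⟨k, hk⟩ := hS.exists_card_eq
    have h6 : Cfsg.pPrimeCore 2 X ⊓ S = ⊥ :=
      Grp.inf_eq_bot_of_coprime (hk ▸ (Grp.pPrimeCore_coprime (p := 2)).pow_right k)
    have h7 := mem_bot.1 (h6 ▸ mem_inf.2 ⟨h3, h5⟩)
    exact mul_inv_eq_iff_eq_mul.1 (mul_inv_eq_one.1 h7)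

end Cfsg.Agent.Fus.UniqueLocal
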