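import Mathlib
import Cfsg.Prelude.Def_QuasithinSetup
import Cfsg.Prelude.Def_TwoFusion
import Cfsg.Agent.Lib.Invol.StrongAlperin
import Cfsg.Agent.Lib.Invol.Sylow

/-!
# A subgroup containing the normalisers of the conjugation family controls fusion
-/

set_option autoImplicit false
set_option linter.style.haveILetI false

namespace Cfsg.Agent.Fus.UniqueLocal

open Subgroup Invol.StrongAlperin
open scoped commutatorElement

universe u

variable {G : Type u} [Group G] [Finite G] {T : Sylow 2 G} {M : Subgroup G}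

/-- A radical centric subgroup with Sylow normaliser lies in the conjugation family. -/
theorem mem_agConjFamily {D : Subgroup G} (h : Good T D) (hT : (T : Subgroup G) ≠ ⊥) :
    D ∈ Cfsg.agConjFamily (T : Subgroup G) := by
  haveI : Fact (Nat.Prime 2) := ⟨Nat.prime_two⟩
  obtain ⟨heq, -, -, hcomm, -, hsup⟩ := good_radical_pPrimePCore h
  refine ⟨fun e => hT (le_bot_iff.1 fun x hx => ?_), h.le, ?_, heq ▸ le_sup_right, ?_, hsup⟩
  · have := h.centric (mem_inf.2 ⟨hx, mem_centralizer_iff.2 fun d hd => by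
      rw [e, SetLike.mem_coe, mem_bot] at hd
      rw [hd, one_mul, mul_one]⟩)
    rwa [e] at this
  · refine ⟨(IsPGroup.comap_subtype (T.isPGroup'.to_le inf_le_left :
      IsPGroup 2 ↥((T : Subgroup G) ⊓ normalizer (D : Set G)))).toSylow (?_), rfl⟩
    exact h.full
  · rw [commutator_eq_bot_iff_le_centralizer]
    exact fun a ha => mem_centralizer_iff.2 fun b hb => (hcomm a ha b hb).symm

/-- Such a subgroup controls fusion of elements of the Sylow subgroup. -/
theorem exists_conj_eq (hT : (T : Subgroup G) ≠ ⊥)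
    (h : ∀ D ∈ Cfsg.agConjFamily (T : Subgroup G), normalizer (D : Set G) ≤ M) {a g : G}
    (ha : a ∈ (T : Subgroup G)) (hg : g * a * g⁻¹ ∈ (T : Subgroup G)) :
    ∃ m ∈ M, m * a * m⁻¹ = g * a * g⁻¹ := by
  haveI : Fact (Nat.Prime 2) := ⟨Nat.prime_two⟩
  obtain ⟨c, x, y, hc, hx, hy, he⟩ := dec T (A := {a}) (Set.singleton_subset_iff.2 ha) (g := g⁻¹)
    (by simpa [rc] using (show g * a * g⁻¹ ∈ T from hg))
  have hxA : rc x {a} ⊆ (T : Subgroup G) := by
    rintro _ ⟨b, hb, rfl⟩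
    rw [Set.mem_singleton_iff] at hb
    subst hb
    have h1 : y⁻¹ * (x⁻¹ * b * x) * y ∈ (T : Subgroup G) := by
      have h2 : g * b * g⁻¹ = y⁻¹ * (x⁻¹ * b * x) * y := by
        have hcb : c⁻¹ * b * c = b := by
          rw [mul_assoc, mem_centralizer_iff.1 hc b rfl, inv_mul_cancel_left]
        rw [show g = (c * x * y)⁻¹ by rw [← he, inv_inv]]
        calc (c * x * y)⁻¹ * b * (c * x * y)⁻¹⁻¹ = y⁻¹ * (x⁻¹ * (c⁻¹ * b * c) * x) * y := by group
          _ = _ := by rw [hcb]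
      rwa [h2] at hg
    have h3 := (mem_normalizer_iff.1 hy _).1 h1
    rw [show y * (y⁻¹ * (x⁻¹ * b * x) * y) * y⁻¹ = x⁻¹ * b * x by group] at h3
    exact h3
  obtain ⟨n, D, z, -, hprod, hall⟩ := exists_steps hx hy hxA
  refine ⟨(x * y)⁻¹, inv_mem (hprod ▸ list_prod_mem ?_), ?_⟩
  · intro w hw
    obtain ⟨i, rfl⟩ := List.mem_ofFn.1 hw
    exact h _ (mem_agConjFamily (hall i).1 hT) (hall i).2.1
  · have hca : c⁻¹ * a * c = a := by
      rw [mul_assoc, mem_centralizer_iff.1 hc a rfl, inv_mul_cancel_left]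
    rw [show g = (c * x * y)⁻¹ by rw [← he, inv_inv]]
    calc (x * y)⁻¹ * a * (x * y)⁻¹⁻¹ = (x * y)⁻¹ * (c⁻¹ * a * c) * (x * y) := by rw [hca, inv_inv]
      _ = _ := by group

omit [Finite G] in
/-- Normal 2-subgroups of such a subgroup are strongly closed. -/
theorem stronglyClosed (hTM : (T : Subgroup G) ≤ M)
    (hctrl : ∀ a g : G, a ∈ (T : Subgroup G) → g * a * g⁻¹ ∈ (T : Subgroup G) → ∃ m ∈ M, m * a * m⁻¹ = g * a * g⁻¹)
    {U : Subgroup G} (hUM : M ≤ normalizer (U : Set G)) (hU2 : IsPGroup 2 ↥U) :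
    Cfsg.IsStronglyClosed U (T : Subgroup G) := by
  haveI : Fact (Nat.Prime 2) := ⟨Nat.prime_two⟩
  have hp : IsPGroup 2 ↥(U ⊔ (T : Subgroup G)) :=
    IsPGroup.to_sup_of_normal_left' hU2 T.isPGroup' (hTM.trans hUM)
  have hUT : U ≤ (T : Subgroup G) := (le_sup_left : U ≤ U ⊔ (T : Subgroup G)).trans (T.3 hp le_sup_right).le
  refine ⟨hUT, fun x hx g hg => ?_⟩
  obtain ⟨m, hm, hme⟩ := hctrl x g (hUT hx) hg
  exact hme ▸ (mem_normalizer_iff.1 (hUM hm) x).1 hx

/-- In a non-abelian simple group such a subgroup has no subgroup of index two. -/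
theorem index_ne_two [IsSimpleGroup G] (hna : ¬ IsMulCommutative G) (hTM : (T : Subgroup G) ≤ M)
    (hctrl : ∀ a g : G, a ∈ (T : Subgroup G) → g * a * g⁻¹ ∈ (T : Subgroup G) → ∃ m ∈ M, m * a * m⁻¹ = g * a * g⁻¹)
    (N : Subgroup ↥M) : N.index ≠ 2 := by
  haveI : Fact (Nat.Prime 2) := ⟨Nat.prime_two⟩
  intro hN
  have hcomm : commutator G = ⊤ := by
    rcases (inferInstance : (commutator G).Normal).eq_bot_or_eq_top with h | h
    · exact absurd ⟨⟨fun a b => by
        have h1 : ⁅a, b⁆ ∈ commutator G := commutator_mem_commutator (mem_top a) (mem_top b)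
        rw [h, mem_bot] at h1
        exact commutatorElement_eq_one_iff_mul_comm.1 h1⟩⟩ hna
    · exact h
  have hfocal := Subgroup.commutator_inf_eq_focalSubgroup T
  rw [hcomm, top_inf_eq] at hfocal
  have hsub : focalSubgroup (T : Subgroup G) ≤ N.map M.subtype := by
    rw [focalSubgroup_def, closure_le]
    rintro _ ⟨hmem, x, hx, u, rfl⟩
    have h1 : u * x⁻¹ * u⁻¹ ∈ (T : Subgroup G) := by
      have := mul_mem (inv_mem hx) hmem
      rwa [commutatorElement_def, show x⁻¹ * (x * u * x⁻¹ * u⁻¹) = u * x⁻¹ * u⁻¹ by group] at this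
    obtain ⟨m, hm, hme⟩ := hctrl x⁻¹ u (inv_mem hx) h1
    refine ⟨⟨x, hTM hx⟩ * ⟨m, hm⟩ * ⟨x, hTM hx⟩⁻¹ * ⟨m, hm⟩⁻¹, ?_, ?_⟩
    · simp only [SetLike.mem_coe, mul_mem_iff_of_index_two hN, inv_mem_iff]
      tauto
    · show x * m * x⁻¹ * m⁻¹ = ⁅x, u⁆
      rw [commutatorElement_def, mul_assoc x m, mul_assoc x, hme]
      group
  have hT' : (T.subtype hTM : Subgroup ↥M) ≤ N := fun t ht => by
    have h1 : (t : G) ∈ focalSubgroup (T : Subgroup G) := hfocal.le ht
    obtain ⟨n, hn, hnt⟩ := hsub h1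
    obtain rfl : n = t := Subtype.ext hnt
    exact hn
  have hd := index_dvd_of_le hT'
  rw [hN] at hd
  exact (T.subtype hTM).not_dvd_index hd

end Cfsg.Agent.Fus.UniqueLocal
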