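import Mathlib

/-!
# Two projections of an elementary abelian 2-group with orbits avoiding their images

`Split S e`: `e` is an idempotent endomorphism whose image avoids `S`, and `S` contains, with each
element `s`, all products of `e s` with the nontrivial elements of the kernel.  If `S` generates
and the image of `e'` is not inside the image of `e`, the kernel of `e` is inside the image of `e'`.
-/

set_option autoImplicit false

namespace Cfsg.Agent.Fus.UniqueLocal

variable {V : Type*} [CommGroup V]

/-- A projection with full orbits on its kernel. -/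
structure Split (S : Set V) (e : V →* V) : Prop where
  idem : ∀ v, e (e v) = e v
  orbit : ∀ s ∈ S, ∀ c, e c = 1 → c ≠ 1 → e s * c ∈ S
  avoid : ∀ s ∈ S, e s ≠ s
  two : ∃ c d, e c = 1 ∧ e d = 1 ∧ c ≠ 1 ∧ d ≠ 1 ∧ c ≠ d

theorem Split.ker_fixed {S : Set V} {e e' : V →* V} (hsq : ∀ v : V, v * v = 1) (h : Split S e)
    (h' : Split S e') (hspan : Subgroup.closure S = ⊤) (hne : ∃ v, e' v = v ∧ e v ≠ v) :
    ∀ c, e c = 1 → e' c = c := by
  have hinv : ∀ v : V, v⁻¹ = v := fun v => inv_eq_of_mul_eq_one_right (hsq v)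
  have heq : ∀ a b : V, a * b = 1 ↔ a = b := fun a b => by rw [mul_eq_one_iff_eq_inv, hinv]
  let p : V →* V := MonoidHom.id V * e
  let q : V →* V := MonoidHom.id V * e'
  have hp : ∀ v, p v = v * e v := fun v => rfl
  have hq : ∀ v, q v = v * e' v := fun v => rfl
  have hep : ∀ v, e (p v) = 1 := fun v => by rw [hp, map_mul, h.idem, hsq]
  have heq' : ∀ v, e' (q v) = 1 := fun v => by rw [hq, map_mul, h'.idem, hsq]
  have hqq : ∀ v, q (q v) = q v := fun v => by rw [hq (q v), heq', mul_one]
  have hqe : ∀ v, q (e' v) = 1 := fun v => by rw [hq, h'.idem, hsq]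
  have hmiss : ∀ s ∈ S, q s ≠ 1 := fun s hs he => h'.avoid s hs ((heq _ _).1 he).symm
  intro c₀ hc₀
  by_contra hne₀
  have hqc₀ : q c₀ ≠ 1 := fun he => hne₀ ((heq _ _).1 he).symm
  have key : ∀ s ∈ S, e (e' s) = e' s := by
    intro s hs
    -- the image of the translated element in the kernel
    have hkey : ∀ c, e c = 1 → q c ≠ 1 → (∀ c', e c' = 1 → q c' = 1 → c' = 1) ∧
        p (e' s) = c * p (q c) := by
      intro c hc hqc
      have h1 : e' s * q c ∈ S := h'.orbit s hs _ (heq' c) hqc
      have hy : e (c * p (e' s) * p (q c)) = 1 := by rw [map_mul, map_mul, hep, hep, hc, one_mul, one_mul]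
      have h2 : q (e (e' s * q c)) = q (c * p (e' s) * p (q c)) := by
        have : e (e' s * q c) = e' s * q c * p (e' s * q c) := by
          rw [hp, ← mul_assoc, hsq, one_mul]
        rw [this, map_mul q, map_mul q (e' s), hqe, hqq, one_mul, map_mul p, mul_assoc c, map_mul q c]
      have h3 : ∀ c', e c' = 1 → c' ≠ 1 → q (e (e' s * q c)) ≠ q c' := by
        intro c' hc' hc1 he
        refine hmiss _ (h.orbit _ h1 c' hc' hc1) ?_
        rw [map_mul, he, hsq]
      have hy1 : c * p (e' s) * p (q c) = 1 := by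
        by_contra hy1
        exact h3 _ hy hy1 h2
      refine ⟨fun c' hc' hqc' => ?_, ?_⟩
      · by_contra hc1
        exact h3 c' hc' hc1 (by rw [h2, hy1, map_one, hqc'])
      · rw [mul_assoc, mul_left_comm] at hy1
        exact (heq _ _).1 hy1
    obtain ⟨c, d, hc, hd, hc1, hd1, hcd⟩ := h.two
    have hinj := (hkey c₀ hc₀ hqc₀).1
    have hcd' : e (c * d) = 1 := by rw [map_mul, hc, hd, one_mul]
    have k1 := (hkey c hc fun he => hc1 (hinj c hc he)).2
    have k2 := (hkey d hd fun he => hd1 (hinj d hd he)).2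
    have k3 := (hkey (c * d) hcd' fun he => hcd ((heq _ _).1 (hinj _ hcd' he))).2
    have k4 : p (e' s) = 1 := by
      rw [map_mul q, map_mul p, mul_mul_mul_comm, ← k1, ← k2, hsq] at k3
      exact k3
    exact ((heq _ _).1 k4).symm
  obtain ⟨v, hv', hv⟩ := hne
  have hall : ∀ w, e (e' w) = e' w := by
    intro w
    have hw : w ∈ Subgroup.closure S := hspan ▸ Subgroup.mem_top w
    induction hw using Subgroup.closure_induction with
    | mem x hx => exact key x hx
    | one => rw [map_one, map_one]
    | mul x y _ _ hx hy => rw [map_mul, map_mul, hx, hy]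
    | inv x _ hx => rw [map_inv, map_inv, hx]
  exact hv (by rw [← hv']; exact hall v)

end Cfsg.Agent.Fus.UniqueLocal
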