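import Mathlib
import Cfsg.Prelude.Def_TwoFusion
import Cfsg.Prelude.Def_CaseTheorems
import Cfsg.Agent.Lib.Invol.Closed
import Cfsg.Agent.Lib.Invol.Sylow
import Cfsg.Agent.Lib.Invol.Basic

/-!
# A strongly closed elementary abelian subgroup normal in a local subgroup

The standing data: `W` is generated by the `M`-conjugates of a 2-central involution `z`, is strongly
closed, and `M` contains the centralisers of the nontrivial elements of `W` fixed by the Sylow
subgroup and is the normaliser of each nontrivial normal subgroup of itself inside `W`.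
-/

set_option autoImplicit false
set_option linter.style.haveILetI false

namespace Cfsg.Agent.Fus.UniqueLocal

open Subgroup

universe u

variable {G : Type u} [Group G]

/-- The conjugates of `z` under `M`. -/
def orbitSet (M : Subgroup G) (z : G) : Set G := {x | ∃ m ∈ M, m * z * m⁻¹ = x}

/-- The standing data. -/
structure Setting (T : Sylow 2 G) (M W : Subgroup G) (z : G) : Prop where
  orderz : orderOf z = 2
  zW : z ∈ W
  zc : ∀ t ∈ (T : Subgroup G), Commute t z
  ne_top : M ≠ ⊤
  sylow_le : (T : Subgroup G) ≤ M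
  comm : ∀ a ∈ W, ∀ b ∈ W, a * b = b * a
  sq : ∀ w ∈ W, w * w = 1
  norm : M ≤ normalizer (W : Set G)
  gen : W ≤ closure (orbitSet M z)
  closed : Cfsg.IsStronglyClosed W (T : Subgroup G)
  normalizer_le : ∀ V ≤ W, V ≠ ⊥ → M ≤ normalizer (V : Set G) → normalizer (V : Set G) ≤ M
  central_le : ∀ v ∈ W, v ≠ 1 → (∀ t ∈ (T : Subgroup G), Commute t v) →
    centralizer ({v} : Set G) ≤ M

namespace Setting

variable {T : Sylow 2 G} {M W : Subgroup G} {z : G}

theorem le_M (s : Setting T M W z) : W ≤ M := s.closed.1.trans s.sylow_le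

theorem conj_mem (s : Setting T M W z) {m w : G} (hm : m ∈ M) (hw : w ∈ W) : m * w * m⁻¹ ∈ W :=
  (mem_normalizer_iff.1 (s.norm hm) w).1 hw

theorem inv_conj_mem (s : Setting T M W z) {m w : G} (hm : m ∈ M) (hw : w ∈ W) : m⁻¹ * w * m ∈ W := by
  simpa using s.conj_mem (inv_mem hm) hw

theorem z_ne_one (s : Setting T M W z) : z ≠ 1 := fun e => by
  have := s.orderz
  rw [e, orderOf_one] at this
  omega

theorem cent_z (s : Setting T M W z) : centralizer ({z} : Set G) ≤ M :=
  s.central_le z s.zW s.z_ne_one s.zc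

theorem cent_W (s : Setting T M W z) : centralizer (W : Set G) ≤ M :=
  (centralizer_le (Set.singleton_subset_iff.2 s.zW)).trans s.cent_z

theorem le_centralizer (s : Setting T M W z) {U : Subgroup G} (hU : U ≤ W) : W ≤ centralizer (U : Set G) :=
  fun w hw => mem_centralizer_iff.2 fun u hu => s.comm u (hU hu) w hw

variable [Finite G]

/-- A conjugate of an element of `W` lying in a 2-subgroup of `M` lies in `W`. -/
theorem mem_of_conj_mem (s : Setting T M W z) {g w : G} (hw : w ∈ W) (hg : g * w * g⁻¹ ∈ M) :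
    g * w * g⁻¹ ∈ W := by
  haveI : Fact (Nat.Prime 2) := ⟨Nat.prime_two⟩
  rcases eq_or_ne w 1 with rfl | hw1
  · simp
  · have h2 : orderOf w = 2 := Invol.orderOf_two_iff.2 ⟨s.sq w hw, hw1⟩
    obtain ⟨m, hm⟩ := Invol.exists_conj_mem_sylow (x := (⟨g * w * g⁻¹, hg⟩ : ↥M)) (n := 1)
      (by rw [Subgroup.orderOf_mk, Invol.orderOf_conj_eq, h2, pow_one]) (T.subtype s.sylow_le)
    have hT : (m : G) * g * w * ((m : G) * g)⁻¹ ∈ (T : Subgroup G) := by
      have : (m : G) * (g * w * g⁻¹) * (m : G)⁻¹ ∈ (T : Subgroup G) := hm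
      simpa [mul_assoc] using this
    have := s.inv_conj_mem m.2 (s.closed.2 w hw _ hT)
    simpa [mul_assoc] using this

/-- An element moving a subgroup with centraliser in `M` into `W` lies in `M`. -/
theorem move (s : Setting T M W z) {U : Subgroup G} (hC : centralizer (U : Set G) ≤ M)
    {g : G} (hg : ∀ u ∈ U, g * u * g⁻¹ ∈ W) : g ∈ M := by
  have hin : ∀ w ∈ W, g⁻¹ * w * g ∈ W := by
    intro w hw
    have hc : g⁻¹ * w * g ∈ centralizer (U : Set G) := mem_centralizer_iff.2 fun u hu => by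
      have := s.comm _ (hg u hu) w hw
      calc u * (g⁻¹ * w * g) = g⁻¹ * (g * u * g⁻¹ * w) * g := by group
        _ = g⁻¹ * (w * (g * u * g⁻¹)) * g := by rw [this]
        _ = _ := by group
    have := s.mem_of_conj_mem (g := g⁻¹) hw (by simpa using hC hc)
    simpa using this
  rcases eq_or_ne W ⊥ with e | hW
  · exact absurd (mem_bot.1 (e ▸ s.zW)) s.z_ne_one
  · refine inv_mem_iff.1 (s.normalizer_le W le_rfl hW s.norm ?_)
    refine Invol.mem_normalizer_of_map_eq (eq_of_le_of_card_ge ?_
      (card_map_of_injective (K := W) (f := (MulAut.conj g⁻¹ : G →* G)) (MulAut.conj g⁻¹).injective).ge)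
    rintro _ ⟨w, hw, rfl⟩
    simpa using hin w hw

theorem mem_of_conj_z (s : Setting T M W z) {g : G} (hg : g * z * g⁻¹ ∈ M) : g ∈ M := by
  refine s.move (U := zpowers z) ?_ fun u hu => ?_
  · exact (centralizer_le (Set.singleton_subset_iff.2 (mem_zpowers z))).trans s.cent_z
  · obtain ⟨i, rfl⟩ := mem_zpowers_iff.1 hu
    rw [← conj_zpow]
    exact zpow_mem (s.mem_of_conj_mem s.zW hg) i

omit [Finite G] in
theorem orbit_subset (s : Setting T M W z) {x : G} (hx : x ∈ orbitSet M z) : x ∈ W := by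
  obtain ⟨m, hm, rfl⟩ := hx
  exact s.conj_mem hm s.zW

omit [Finite G] in
theorem orbit_cent (s : Setting T M W z) {x : G} (hx : x ∈ orbitSet M z) :
    centralizer ({x} : Set G) ≤ M := by
  obtain ⟨m, hm, rfl⟩ := hx
  intro c hc
  rw [mem_centralizer_singleton_iff] at hc
  have h1 : m⁻¹ * c * m ∈ M := s.cent_z (mem_centralizer_singleton_iff.2 (by
    calc m⁻¹ * c * m * z = m⁻¹ * (c * (m * z * m⁻¹)) * m := by group
      _ = m⁻¹ * (m * z * m⁻¹ * c) * m := by rw [hc]
      _ = _ := by group))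
  simpa [mul_assoc] using mul_mem (mul_mem hm h1) (inv_mem hm)

omit [Finite G] in
theorem orbit_conj {m x : G} (hm : m ∈ M) (hx : x ∈ orbitSet M z) : m * x * m⁻¹ ∈ orbitSet M z := by
  obtain ⟨k, hk, rfl⟩ := hx
  exact ⟨m * k, mul_mem hm hk, by group⟩

omit [Finite G] in
theorem conj_centralizer {U : Subgroup G} {m : G} (hm : m ∈ M)
    (h : ¬ centralizer (U : Set G) ≤ M) :
    ¬ centralizer ((U.map (MulAut.conj m : G →* G) : Subgroup G) : Set G) ≤ M := by
  intro hle
  refine h fun c hc => ?_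
  have h1 : m * c * m⁻¹ ∈ centralizer ((U.map (MulAut.conj m : G →* G) : Subgroup G) : Set G) := by
    refine mem_centralizer_iff.2 ?_
    rintro _ ⟨u, hu, rfl⟩
    simp only [MonoidHom.coe_coe, MulAut.conj_apply]
    calc m * u * m⁻¹ * (m * c * m⁻¹) = m * (u * c) * m⁻¹ := by group
      _ = m * (c * u) * m⁻¹ := by rw [mem_centralizer_iff.1 hc u hu]
      _ = _ := by group
  simpa [mul_assoc] using mul_mem (mul_mem (inv_mem hm) (hle h1)) hm

end Setting

end Cfsg.Agent.Fus.UniqueLocal
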