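import Mathlib
import Cfsg.Agent.S1913
import Cfsg.Agent.Lib.Fus.UniqueLocal.Setting
import Cfsg.Agent.Lib.Fus.UniqueLocal.Bender
import Cfsg.Agent.Lib.Fus.SClosedSE.Main
import Cfsg.Agent.Lib.Fus.SingleCriterion.Basic

/-!
# The centraliser of a maximal subgroup of `W` with centraliser outside `M`

Modulo `U` the image of `W` is strongly closed with centralisers of involutions in the image of `M`,
so the image of `M` is strongly embedded in the normal closure and transitive on the image of `W`.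
-/

set_option autoImplicit false
set_option linter.style.haveILetI false

namespace Cfsg.Agent.Fus.UniqueLocal

open Subgroup SClosedSE

universe u

variable {G : Type u} [Group G]

/-- `U` is maximal among the subgroups of `W` whose centraliser is not in `M`. -/
structure IsOuter (M W U : Subgroup G) : Prop where
  le : U ≤ W
  not_le : ¬ centralizer (U : Set G) ≤ M
  max : ∀ V ≤ W, U < V → centralizer (V : Set G) ≤ M

/-- What is needed from the quotient: a subgroup of `M` centralising `U`, transitive on the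
nontrivial elements of `W` modulo `U`, all whose 2-elements centralise `W`. -/
structure Mover (M W U K : Subgroup G) : Prop where
  le : K ≤ M
  cent : K ≤ centralizer (U : Set G)
  trans : ∀ v ∈ W, ∀ w ∈ W, v ∉ U → w ∉ U → ∃ g ∈ K, w⁻¹ * (g * v * g⁻¹) ∈ U
  twoElem : ∀ g ∈ K, (∃ k, orderOf g = 2 ^ k) → ∀ w ∈ W, g * w * g⁻¹ = w
  three : ∃ a ∈ W, ∃ b ∈ W, a ∉ U ∧ b ∉ U ∧ a⁻¹ * b ∉ U

variable {T : Sylow 2 G} {M W : Subgroup G} {z : G} [Finite G]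

theorem Setting.mem_of_conj_outside (s : Setting T M W z) {U : Subgroup G} (hU : IsOuter M W U) {g w : G}
    (hg : g ∈ centralizer (U : Set G)) (hw : w ∈ W) (hwU : w ∉ U) (hm : g * w * g⁻¹ ∈ M) : g ∈ M := by
  have hw' := s.mem_of_conj_mem hw hm
  refine s.move (U := U ⊔ zpowers w) (hU.max _ (sup_le hU.le (zpowers_le.2 hw))
    (lt_of_le_of_ne le_sup_left fun e => hwU (by
      rw [e]; exact mem_sup_right (mem_zpowers w)))) fun x hx => ?_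
  have hle : U ⊔ zpowers w ≤ W.comap (MulAut.conj g : G →* G) := by
    refine sup_le (fun u hu => ?_) (zpowers_le.2 (by simpa using hw'))
    have : g * u * g⁻¹ = u := by rw [← mem_centralizer_iff.1 hg u hu, mul_inv_cancel_right]
    simpa [this] using hU.le hu
  simpa using hle hx

theorem Setting.exists_mover (s : Setting T M W z) {U : Subgroup G} (hU : IsOuter M W U)
    (hz : ∃ m ∈ M, m * z * m⁻¹ ≠ z) : ∃ K, Mover M W U K := by
  classical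
  haveI : Fact (Nat.Prime 2) := ⟨Nat.prime_two⟩
  have hWM := s.le_M
  have hUM : U ≤ M := hU.le.trans hWM
  set C := centralizer (U : Set G) with hC
  have hWC : W ≤ C := s.le_centralizer hU.le
  have hUC : U ≤ C := hU.le.trans hWC
  haveI hUn : (U.subgroupOf C).Normal := ⟨fun n hn g => by
    have h1 : (n : G) * (g : G) = (g : G) * (n : G) := mem_centralizer_iff.1 g.2 _ hn
    have h2 : (g : G) * (n : G) * (g : G)⁻¹ = n := by rw [← h1, mul_inv_cancel_right]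
    simpa [mem_subgroupOf, h2] using hn⟩
  let f := QuotientGroup.mk' (U.subgroupOf C)
  have hfs : Function.Surjective f := QuotientGroup.mk'_surjective _
  have hfeq : ∀ a b : ↥C, f a = f b ↔ (a : G)⁻¹ * b ∈ U := fun a b => by
    simp [f, QuotientGroup.eq, mem_subgroupOf]
  have hf1 : ∀ g : ↥C, f g = 1 → (g : G) ∈ U := fun g h => (QuotientGroup.eq_one_iff g).1 h
  set A := (W.subgroupOf C).map f with hA
  have hmemA : ∀ g : ↥C, f g ∈ A ↔ (g : G) ∈ W := by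
    refine fun g => ⟨?_, fun h => ⟨g, h, rfl⟩⟩
    rintro ⟨w, hw, hwg⟩
    have := mul_mem (show (w : G) ∈ W from hw) (hU.le ((hfeq w g).1 hwg))
    rwa [mul_inv_cancel_left] at this
  set H := (M.subgroupOf C).map f with hH
  have hmemH : ∀ g : ↥C, f g ∈ H ↔ (g : G) ∈ M := by
    refine fun g => ⟨?_, fun h => ⟨g, h, rfl⟩⟩
    rintro ⟨w, hw, hwg⟩
    have := mul_mem (show (w : G) ∈ M from hw) (hUM ((hfeq w g).1 hwg))
    rwa [mul_inv_cancel_left] at this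
  have hA1 : ∀ g : ↥C, f g ∈ A → f g ≠ 1 → (g : G) ∈ W ∧ (g : G) ∉ U := fun g hg hg1 =>
    ⟨(hmemA g).1 hg, fun h => hg1 ((QuotientGroup.eq_one_iff g).2 h)⟩
  have hAsq : ∀ a ∈ A, a * a = 1 := by
    rintro _ ⟨w, hw, rfl⟩
    rw [← map_mul, show w * w = 1 from Subtype.ext (s.sq _ hw), map_one]
  have hAcomm : ∀ a ∈ A, ∀ b ∈ A, Commute a b := by
    rintro _ ⟨v, hv, rfl⟩ _ ⟨w, hw, rfl⟩
    show f v * f w = f w * f v
    rw [← map_mul, ← map_mul, show v * w = w * v from Subtype.ext (s.comm _ hv _ hw)]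
  have houter : ∀ (g w : ↥C), f w ∈ A → f w ≠ 1 → f g * f w * (f g)⁻¹ ∈ H → (g : G) ∈ M := by
    intro g w hw hw1 h
    rw [← map_inv, ← map_mul, ← map_mul, hmemH] at h
    exact s.mem_of_conj_outside hU g.2 (hA1 w hw hw1).1 (hA1 w hw hw1).2 (by simpa using h)
  obtain ⟨w₀, hw₀, hw₀U⟩ : ∃ w ∈ W, w ∉ U := by
    by_contra hcon
    push Not at hcon
    exact hU.not_le ((centralizer_le (fun x hx => hcon x hx)).trans s.cent_W)
  -- a Sylow subgroup of the centraliser inside `M`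
  obtain ⟨R, hWR, hR⟩ := exists_twoSylowIn (le_inf hWM hWC) (T.isPGroup'.to_le s.closed.1)
  obtain ⟨S, hRS⟩ := (hR.2.1.comap_subtype (K := C)).exists_le_sylow
  have hSR : ∀ x : ↥C, x ∈ S → (x : G) ∈ R := by
    by_contra hcon
    have hne : R ≠ (S : Subgroup ↥C).map C.subtype := fun e =>
      hcon fun x hx => e.ge ⟨x, hx, rfl⟩
    have hS' : IsPGroup 2 ((S : Subgroup ↥C).map C.subtype) := S.isPGroup'.map _
    have hle : R ≤ (S : Subgroup ↥C).map C.subtype := fun r hr =>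
      ⟨⟨r, (mem_inf.1 (hR.1 hr)).2⟩, hRS hr, rfl⟩
    have hlt := card_lt_inf_normalizer hS' hle hne
    refine not_lt.2 (hR.card_le ?_ (hS'.to_le inf_le_left)) hlt
    rintro g ⟨⟨x, -, rfl⟩, hn⟩
    refine mem_inf.2 ⟨s.mem_of_conj_outside hU x.2 hw₀ hw₀U ?_, x.2⟩
    exact (mem_inf.1 (hR.1 ((mem_normalizer_iff.1 hn w₀).1 (hWR hw₀)))).1
  set P := S.mapSurjective hfs with hP
  have hPeq : (P : Subgroup (↥C ⧸ U.subgroupOf C)) = (S : Subgroup ↥C).map f := Sylow.coe_mapSurjective hfs S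
  have hPH : (P : Subgroup (↥C ⧸ U.subgroupOf C)) ≤ H := by
    rw [hPeq]
    rintro _ ⟨x, hx, rfl⟩
    exact (hmemH x).2 (mem_inf.1 (hR.1 (hSR x hx))).1
  have hAP : A ≤ (P : Subgroup (↥C ⧸ U.subgroupOf C)) := by
    rw [hPeq]
    exact map_mono fun x hx => hRS (hWR hx)
  have hw₀1 : f ⟨w₀, hWC hw₀⟩ ≠ 1 := fun e => hw₀U (hf1 _ e)
  have hw₀A : f ⟨w₀, hWC hw₀⟩ ∈ A := (hmemA _).2 hw₀
  have hHtop : H ≠ ⊤ := fun e => hU.not_le fun g hg => (hmemH ⟨g, hg⟩).1 (e ▸ mem_top _)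
  have hyp : SClosedSE.Hyp P A H := by
    refine ⟨⟨hAP, fun x hx g hgx => ?_⟩, fun e => hw₀1 (mem_bot.1 (e ▸ hw₀A)), hHtop, ?_, fun g hg => ?_⟩
    · obtain ⟨w, rfl⟩ := hfs x
      obtain ⟨k, rfl⟩ := hfs g
      by_cases h1 : f w = 1
      · simp [h1]
      · have hk := houter k w hx h1 (hPH hgx)
        rw [← map_inv, ← map_mul, ← map_mul, hmemA]
        simpa using s.conj_mem hk ((hmemA w).1 hx)
    · intro a ha ha2 c hc
      obtain ⟨w, rfl⟩ := hfs a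
      obtain ⟨k, rfl⟩ := hfs c
      rw [mem_centralizer_singleton_iff] at hc
      refine (hmemH k).2 (houter k w ha (Invol.ne_one_of_orderOf_two ha2) ?_)
      rw [hc, mul_inv_cancel_right]
      exact hPH (hAP ha)
    · obtain ⟨k, rfl⟩ := hfs g
      exact (hmemH k).2 (houter k _ hw₀A hw₀1 (hPH (hAP (hg _ hw₀A
        (Invol.orderOf_two_iff.2 ⟨hAsq _ hw₀A, hw₀1⟩)))))
  set Kb := Subgroup.normalClosure {a | a ∈ A ∧ orderOf a = 2} with hKb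
  have hse : Cfsg.IsStronglyEmbedded (H.subgroupOf Kb) :=
    SClosedSE.holds (fun P z a b H c d e => S1913.result P z a b H c d e) _ _ rfl P A H hyp
  have hA2 : ∀ a ∈ A, a ≠ 1 → orderOf a = 2 := fun a ha ha1 =>
    Invol.orderOf_two_iff.2 ⟨hAsq a ha, ha1⟩
  have hAK : A ≤ Kb := fun a ha => by
    rcases eq_or_ne a 1 with rfl | h1
    · exact one_mem _
    · exact subset_normalClosure ⟨ha, hA2 a ha h1⟩
  have hAH : A ≤ H := hAP.trans hPH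
  -- at least three involutions
  have hthree : ∃ a ∈ W, ∃ b ∈ W, a ∉ U ∧ b ∉ U ∧ a⁻¹ * b ∉ U := by
    by_contra hcon
    push Not at hcon
    obtain ⟨m, hm, hmz⟩ := hz
    set D : Set G := {d | ∃ x ∈ orbitSet M z, ∃ y ∈ orbitSet M z, x⁻¹ * y = d} with hD
    have hout : ∀ x ∈ orbitSet M z, x ∉ U := fun x hx h =>
      hU.not_le ((centralizer_le (Set.singleton_subset_iff.2 h)).trans (s.orbit_cent hx))
    have hDU : closure D ≤ U := (closure_le _).2 (by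
      rintro _ ⟨x, hx, y, hy, rfl⟩
      exact hcon x (s.orbit_subset hx) y (s.orbit_subset hy) (hout x hx) (hout y hy))
    have hDn : M ≤ normalizer (closure D : Set G) := fun k hk => by
      refine Invol.mem_normalizer_of_map_eq (eq_of_le_of_card_ge ?_
        (card_map_of_injective (K := closure D) (f := (MulAut.conj k : G →* G)) (MulAut.conj k).injective).ge)
      rw [MonoidHom.map_closure]
      refine closure_mono ?_
      rintro _ ⟨_, ⟨x, hx, y, hy, rfl⟩, rfl⟩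
      exact ⟨k * x * k⁻¹, Setting.orbit_conj hk hx, k * y * k⁻¹, Setting.orbit_conj hk hy, by simp [mul_assoc]⟩
    have hD1 : closure D ≠ ⊥ := fun e => hmz (inv_mul_eq_one.1 (mem_bot.1 (e ▸ subset_closure
      ⟨m * z * m⁻¹, ⟨m, hm, rfl⟩, z, ⟨1, one_mem _, by group⟩, rfl⟩)))
    refine hU.not_le ((centralizer_le (fun x hx => hDU hx)).trans ?_)
    exact (centralizer_le_normalizer _).trans (s.normalizer_le _ (hDU.trans hU.le) hD1 hDn)
  -- transitivity on the image of `W`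
  obtain ⟨j, hjK, hj2, hjH⟩ : ∃ j ∈ Kb, orderOf j = 2 ∧ j ∉ H := by
    by_contra hcon
    push Not at hcon
    refine hse.1 (subgroupOf_eq_top.2 ((closure_le _).2 ?_))
    intro x hx
    obtain ⟨a, ha, hax⟩ := Group.mem_conjugatesOfSet_iff.1 hx
    obtain ⟨g, rfl⟩ := _root_.isConj_iff.1 hax
    exact hcon _ (subset_normalClosure ha |> fun h => normalClosure_normal.conj_mem _ h g)
      (by rw [Invol.orderOf_conj_eq, ha.2])
  have hreach : ∀ a ∈ A, a ≠ 1 → ∃ k ∈ Kb, k * a * k⁻¹ = j := by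
    intro a ha ha1
    have ha2 := hA2 a ha ha1
    rcases Nat.even_or_odd (orderOf (a * j)) with he | ho
    · exfalso
      obtain ⟨w, hw1, hwa, hwj, hwz, -⟩ := SingleCrit.exists_middle ha2 hj2 he (orderOf_pos _)
      have hwK : w ∈ Kb := zpowers_le.2 (mul_mem (hAK ha) hjK) hwz
      have hwH : w ∈ H := hyp.cent a ha ha2 (mem_centralizer_singleton_iff.2 hwa.eq)
      obtain ⟨i, rfl⟩ := mem_zpowers_iff.1 hwz
      have hinv : ((a * j) ^ i)⁻¹ = (a * j) ^ i := by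
        calc ((a * j) ^ i)⁻¹ = (a * (a * j) * a⁻¹) ^ i := by
              rw [Invol.conj_mul_eq_inv ha2 hj2, inv_zpow]
          _ = a * (a * j) ^ i * a⁻¹ := conj_zpow
          _ = (a * j) ^ i := by rw [← hwa.eq, mul_inv_cancel_right]
      refine se_elim hse hjK hjH (Invol.orderOf_two_iff.2 ⟨?_, hw1⟩) hwK hwH ?_
      · nth_rw 1 [← hinv]
        exact inv_mul_cancel _
      · rwa [mul_assoc, hwj.eq, inv_mul_cancel_left]
    · obtain ⟨n, hn⟩ : Odd (orderOf (j * a)) := by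
        rwa [show orderOf (j * a) = orderOf (a * j) by
          rw [← orderOf_inv, mul_inv_rev, Invol.inv_of_orderOf_two ha2, Invol.inv_of_orderOf_two hj2]]
      exact ⟨_, pow_mem (mul_mem hjK (hAK ha)) _, SingleCrit.conj_pow_odd
        (Invol.mul_self_of_orderOf_two ha2) (Invol.mul_self_of_orderOf_two hj2) hn⟩
  have htrans : ∀ a ∈ A, a ≠ 1 → ∀ b ∈ A, b ≠ 1 → ∃ g ∈ Kb, g ∈ H ∧ g * a * g⁻¹ = b := by
    intro a ha ha1 b hb hb1
    obtain ⟨k, hk, hka⟩ := hreach a ha ha1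
    obtain ⟨l, hl, hlb⟩ := hreach b hb hb1
    have he : l⁻¹ * k * a * (l⁻¹ * k)⁻¹ = b := by
      calc l⁻¹ * k * a * (l⁻¹ * k)⁻¹ = l⁻¹ * (k * a * k⁻¹) * l := by group
        _ = b := by rw [hka, ← hlb]; group
    exact ⟨_, mul_mem (inv_mem hl) hk, hyp.control ha ha1 (he ▸ hb), he⟩
  -- the Sylow subgroup centralises the image of `W`
  obtain ⟨a₁, ha₁, b₁, hb₁, ha₁U, hb₁U, hab₁⟩ := hthree
  have hcentA : ∀ g : ↥C, (g : G) ∈ R → f g ∈ Kb → ∀ a ∈ A, Commute a (f g) := by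
    intro g hgR hgK a ha
    rcases eq_or_ne a 1 with rfl | ha1
    · exact Commute.one_left _
    have hgP : f g ∈ (P : Subgroup (↥C ⧸ U.subgroupOf C)) := hPeq.ge ⟨g, hRS hgR, rfl⟩
    obtain ⟨b, hb, hb1, hba⟩ : ∃ b ∈ A, b ≠ 1 ∧ a ≠ b := by
      by_cases h1 : f ⟨a₁, hWC ha₁⟩ = a
      · refine ⟨f ⟨b₁, hWC hb₁⟩, (hmemA _).2 hb₁, fun e => hb₁U (hf1 _ e), ?_⟩
        rw [← h1]
        exact fun e => hab₁ ((hfeq _ _).1 e)
      · exact ⟨_, (hmemA _).2 ha₁, fun e => ha₁U (hf1 _ e), Ne.symm h1⟩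
    have := commute_of_stronglyEmbedded hse (a := (⟨a, hAK ha⟩ : ↥Kb)) (b := ⟨b, hAK hb⟩)
      (by rw [Subgroup.orderOf_mk]; exact hA2 a ha ha1) (by rw [Subgroup.orderOf_mk]; exact hA2 b hb hb1)
      (Subtype.ext (hAcomm a ha b hb).eq) (fun e => hba (congrArg Subtype.val e))
      (S := (P : Subgroup (↥C ⧸ U.subgroupOf C)).comap Kb.subtype) (P.isPGroup'.comap_subtype (K := Kb))
      (hAP ha) (r := ⟨f g, hgK⟩) hgP
    exact congrArg Subtype.val this.eq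
  -- the subgroup `K` and the part centralising the image of `W`
  set L := (Kb.comap f).map C.subtype with hL
  have hmemL : ∀ g : ↥C, (g : G) ∈ L ↔ f g ∈ Kb := fun g =>
    ⟨fun ⟨x, hx, hxg⟩ => Subtype.ext hxg ▸ hx, fun h => ⟨g, h, rfl⟩⟩
  have hLC : L ≤ C := map_subtype_le _
  set N := ((Kb ⊓ centralizer (A : Set (↥C ⧸ U.subgroupOf C))).comap f).map C.subtype ⊓ M with hN
  have hmemN : ∀ g : ↥C, (g : G) ∈ N ↔ (f g ∈ Kb ∧ ∀ a ∈ A, a * f g = f g * a) ∧ (g : G) ∈ M := fun g => by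
    refine ⟨fun ⟨⟨x, hx, hxg⟩, hgM⟩ => ?_, fun h => ⟨⟨g, ⟨h.1.1, mem_centralizer_iff.2 h.1.2⟩, rfl⟩, h.2⟩⟩
    obtain rfl := Subtype.ext hxg
    exact ⟨⟨hx.1, mem_centralizer_iff.1 hx.2⟩, hgM⟩
  have hNle : N ≤ M ⊓ C := le_inf inf_le_right (inf_le_left.trans (map_subtype_le _))
  have hKn : Kb.Normal := normalClosure_normal
  -- conjugates of elements of `N` under `M ⊓ C` lie in `N`
  have hNn : ∀ k ∈ M ⊓ C, ∀ n ∈ N, k * n * k⁻¹ ∈ N := by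
    intro k hk n hn
    obtain ⟨hkM, hkC⟩ := mem_inf.1 hk
    have hnC := (mem_inf.1 (hNle hn)).2
    obtain ⟨⟨h1, h2⟩, h3⟩ := (hmemN ⟨n, hnC⟩).1 hn
    refine (hmemN ⟨k * n * k⁻¹, mul_mem (mul_mem hkC hnC) (inv_mem hkC)⟩).2
      ⟨⟨?_, fun a ha => ?_⟩, mul_mem (mul_mem hkM h3) (inv_mem hkM)⟩
    · have := hKn.conj_mem _ h1 (f ⟨k, hkC⟩)
      rwa [← map_inv, ← map_mul, ← map_mul] at this
    · obtain ⟨w, hw, rfl⟩ := ha
      have hw' : f (⟨k, hkC⟩⁻¹ * w * ⟨k, hkC⟩) ∈ A := (hmemA _).2 (by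
        simpa using s.inv_conj_mem hkM hw)
      have := h2 _ hw'
      rw [show (⟨k * n * k⁻¹, mul_mem (mul_mem hkC hnC) (inv_mem hkC)⟩ : ↥C) =
        ⟨k, hkC⟩ * ⟨n, hnC⟩ * ⟨k, hkC⟩⁻¹ from rfl]
      simp only [map_mul, map_inv] at this ⊢
      calc f w * (f ⟨k, hkC⟩ * f ⟨n, hnC⟩ * (f ⟨k, hkC⟩)⁻¹)
          = f ⟨k, hkC⟩ * ((f ⟨k, hkC⟩)⁻¹ * f w * f ⟨k, hkC⟩ * f ⟨n, hnC⟩) * (f ⟨k, hkC⟩)⁻¹ := by group
        _ = f ⟨k, hkC⟩ * (f ⟨n, hnC⟩ * ((f ⟨k, hkC⟩)⁻¹ * f w * f ⟨k, hkC⟩)) * (f ⟨k, hkC⟩)⁻¹ := by rw [this]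
        _ = _ := by group
  -- 2-elements of `M ⊓ L` lie in `N`
  have htwoN : ∀ g ∈ M ⊓ L, (∃ i, orderOf g = 2 ^ i) → g ∈ N := by
    intro g hg ⟨i, hi⟩
    obtain ⟨hgM, hgL⟩ := mem_inf.1 hg
    have hgC := hLC hgL
    obtain ⟨k, hk, hkR⟩ := hR.2.2 (zpowers g) (zpowers_le.2 ⟨hgM, hgC⟩) (Invol.isPGroup_zpowers hi)
    have hr := hkR g (mem_zpowers g)
    have hkK : f (⟨k, (mem_inf.1 hk).2⟩ * ⟨g, hgC⟩ * ⟨k, (mem_inf.1 hk).2⟩⁻¹) ∈ Kb := by
      rw [map_mul, map_mul, map_inv]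
      exact hKn.conj_mem _ ((hmemL ⟨g, hgC⟩).1 hgL) _
    have hrN : k * g * k⁻¹ ∈ N := (hmemN (⟨k, (mem_inf.1 hk).2⟩ * ⟨g, hgC⟩ * ⟨k, (mem_inf.1 hk).2⟩⁻¹)).2
      ⟨⟨hkK, fun a ha => (hcentA _ hr hkK a ha).eq⟩, (mem_inf.1 (hR.1 hr)).1⟩
    simpa [mul_assoc] using hNn k⁻¹ (inv_mem hk) _ hrN
  obtain ⟨R₁, hR₀₁, hR₁⟩ := exists_twoSylowIn (inf_le_right : R ⊓ N ≤ N) (hR.2.1.to_le inf_le_left)
  have hR₁R : R₁ ≤ R := by
    obtain ⟨k, hk, hkR⟩ := hR.2.2 R₁ (hR₁.1.trans hNle) hR₁.2.1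
    have hle : R₁.map (MulAut.conj k : G →* G) ≤ R ⊓ N := by
      rintro _ ⟨r, hr, rfl⟩
      exact ⟨hkR r hr, hNn k hk r (hR₁.1 hr)⟩
    have hcard : Nat.card R₁ ≤ Nat.card ↥(R ⊓ N) := by
      rw [← card_map_of_injective (K := R₁) (f := (MulAut.conj k : G →* G)) (MulAut.conj k).injective]
      exact Nat.card_le_card_of_injective _ (inclusion_injective hle)
    exact (eq_of_le_of_card_ge hR₀₁ hcard).ge.trans inf_le_left
  -- a conjugate of `z` central in `R`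
  obtain ⟨x₀, hx₀, hx₀R⟩ : ∃ x ∈ orbitSet M z, ∀ r ∈ R, r * x = x * r := by
    obtain ⟨m, hm⟩ := Invol.exists_conj_subset_sylow
      ((hR.2.1.comap_subtype (K := M))) (T.subtype s.sylow_le)
    refine ⟨(m : G)⁻¹ * z * m, ⟨(m : G)⁻¹, inv_mem m.2, by simp⟩, fun r hr => ?_⟩
    have h1 : (m : G) * r * (m : G)⁻¹ ∈ (T : Subgroup G) := hm ⟨r, (mem_inf.1 (hR.1 hr)).1⟩ hr
    calc r * ((m : G)⁻¹ * z * m) = (m : G)⁻¹ * ((m : G) * r * (m : G)⁻¹ * z) * m := by group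
      _ = (m : G)⁻¹ * (z * ((m : G) * r * (m : G)⁻¹)) * m := by rw [(s.zc _ h1).eq]
      _ = _ := by group
  have hx₀W := s.orbit_subset hx₀
  have hx₀U : x₀ ∉ U := fun h =>
    hU.not_le ((centralizer_le (Set.singleton_subset_iff.2 h)).trans (s.orbit_cent hx₀))
  have hUfix : ∀ g ∈ C, ∀ u ∈ U, g * u * g⁻¹ = u := fun g hg u hu => by
    rw [← mem_centralizer_iff.1 hg u hu, mul_inv_cancel_right]
  -- 2-elements of `M ⊓ L` fix `x₀`
  have hfix₀ : ∀ g ∈ M ⊓ L, (∃ i, orderOf g = 2 ^ i) → g * x₀ * g⁻¹ = x₀ := by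
    intro g hg hi
    have hgN := htwoN g hg hi
    obtain ⟨i, hi⟩ := hi
    obtain ⟨n, hn, hnR⟩ := hR₁.2.2 (zpowers g) (zpowers_le.2 hgN) (Invol.isPGroup_zpowers hi)
    have hr := hx₀R _ (hR₁R (hnR g (mem_zpowers g)))
    have hnC := (mem_inf.1 (hNle hn)).2
    obtain ⟨⟨-, hnA⟩, -⟩ := (hmemN ⟨n, hnC⟩).1 hn
    have h2 := hnA (f ⟨x₀, hWC hx₀W⟩) ((hmemA _).2 hx₀W)
    rw [← map_mul, ← map_mul, hfeq] at h2
    have hu : x₀⁻¹ * (n⁻¹ * x₀ * n) ∈ U := by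
      have := inv_mem h2
      have e : (((⟨x₀, hWC hx₀W⟩ : ↥C) * ⟨n, hnC⟩ : ↥C) : G)⁻¹ * ((⟨n, hnC⟩ : ↥C) * ⟨x₀, hWC hx₀W⟩ : ↥C) =
          n⁻¹ * x₀⁻¹ * (n * x₀) := by simp
      rw [e] at this
      have h3 := hUfix _ (mul_mem hnC (hWC hx₀W)) _ this
      convert this using 1
      have h4 : (n⁻¹ * x₀⁻¹ * (n * x₀))⁻¹ = x₀⁻¹ * n⁻¹ * (x₀ * n) := by group
      rw [h4]; group
    have h5 : g * (n⁻¹ * x₀ * n) * g⁻¹ = n⁻¹ * x₀ * n := by
      calc g * (n⁻¹ * x₀ * n) * g⁻¹ = n⁻¹ * ((n * g * n⁻¹) * x₀ * (n * g * n⁻¹)⁻¹) * n := by group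
        _ = _ := by rw [hr, mul_inv_cancel_right]
    have h6 : g * (x₀⁻¹ * (n⁻¹ * x₀ * n)) * g⁻¹ = x₀⁻¹ * (n⁻¹ * x₀ * n) := hUfix g (hLC (mem_inf.1 hg).2) _ hu
    calc g * x₀ * g⁻¹ = (g * (n⁻¹ * x₀ * n) * g⁻¹) * (g * (x₀⁻¹ * (n⁻¹ * x₀ * n)) * g⁻¹)⁻¹ := by group
      _ = x₀ := by rw [h5, h6]; group
  have htransG : ∀ v ∈ W, ∀ w ∈ W, v ∉ U → w ∉ U → ∃ g ∈ M ⊓ L, w⁻¹ * (g * v * g⁻¹) ∈ U := by
    intro v hv w hw hvU hwU
    obtain ⟨y, hyK, hyH, hy⟩ := htrans (f ⟨v, hWC hv⟩) ((hmemA _).2 hv)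
      (fun e => hvU (hf1 _ e)) (f ⟨w, hWC hw⟩) ((hmemA _).2 hw)
      (fun e => hwU (hf1 _ e))
    obtain ⟨g, rfl⟩ := hfs y
    refine ⟨g, ⟨(hmemH g).1 hyH, (hmemL g).2 hyK⟩, ?_⟩
    rw [← map_inv, ← map_mul, ← map_mul, eq_comm, hfeq] at hy
    simpa using hy
  refine ⟨M ⊓ L, inf_le_left, inf_le_right.trans hLC, htransG, fun g hg hi w hw => ?_,
    a₁, ha₁, b₁, hb₁, ha₁U, hb₁U, hab₁⟩
  have hgC := hLC (mem_inf.1 hg).2
  by_cases hwU : w ∈ U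
  · exact hUfix g hgC w hwU
  obtain ⟨k, hk, hku⟩ := htransG x₀ hx₀W w hw hx₀U hwU
  have h1 : (k⁻¹ * g * k) * x₀ * (k⁻¹ * g * k)⁻¹ = x₀ := by
    refine hfix₀ _ (mul_mem (mul_mem (inv_mem hk) hg) hk) ?_
    obtain ⟨i, hi⟩ := hi
    exact ⟨i, by simpa [hi] using Invol.orderOf_conj_eq k⁻¹ g⟩
  calc g * w * g⁻¹ = (k * ((k⁻¹ * g * k) * x₀ * (k⁻¹ * g * k)⁻¹) * k⁻¹) *
        (g * (w⁻¹ * (k * x₀ * k⁻¹)) * g⁻¹)⁻¹ := by group
    _ = w := by rw [h1, hUfix g hgC _ hku]; group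

end Cfsg.Agent.Fus.UniqueLocal
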