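import Mathlib
import Cfsg.Agent.Lib.Fus.UniqueLocal.Quotient
import Cfsg.Agent.Lib.Fus.UniqueLocal.Projection

/-!
# The projection of a maximal subgroup with centraliser outside `M`

The action of the mover on `W` is a group of odd order, so averaging projects `W` onto `U`.
-/

set_option autoImplicit false
set_option linter.style.haveILetI false

namespace Cfsg.Agent.Fus.UniqueLocal

open Subgroup
open scoped IsMulCommutative

universe u

variable {G : Type u} [Group G] [Finite G] {T : Sylow 2 G} {M W : Subgroup G} {z : G}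

/-- The elements of the orbit of `z`, inside `W`. -/
def orbitIn (M W : Subgroup G) (z : G) : Set ↥W := {v | (v : G) ∈ orbitSet M z}

omit [Finite G] in
theorem Setting.closure_orbitIn (s : Setting T M W z) : closure (orbitIn M W z) = ⊤ := by
  refine eq_top_iff.2 fun v _ => ?_
  have h : (closure (orbitIn M W z)).map W.subtype = closure (orbitSet M z) := by
    rw [MonoidHom.map_closure]
    congr 1
    ext x
    exact ⟨fun ⟨y, hy, e⟩ => e ▸ hy, fun hx => ⟨⟨x, s.orbit_subset hx⟩, hx, rfl⟩⟩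
  obtain ⟨y, hy, hyv⟩ := h.ge (s.gen v.2)
  exact Subtype.ext hyv ▸ hy

/-- The projection, and an element of `M` of odd prime order on `W` centralising `U`. -/
theorem Setting.exists_line (s : Setting T M W z) [IsMulCommutative ↥W] {U : Subgroup G}
    (hU : IsOuter M W U) (hz : ∃ m ∈ M, m * z * m⁻¹ ≠ z) :
    ∃ e : ↥W →* ↥W, (∀ v : ↥W, (v : G) ∈ U ↔ e v = v) ∧ Split (orbitIn M W z) e ∧
      ∃ p : ℕ, p.Prime ∧ p ≠ 2 ∧ ∃ g ∈ M, g ∈ centralizer (U : Set G) ∧ g ∉ centralizer (W : Set G) ∧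
        g ^ p ∈ centralizer (W : Set G) := by
  classical
  haveI : Fact (Nat.Prime 2) := ⟨Nat.prime_two⟩
  obtain ⟨K, hK⟩ := s.exists_mover hU hz
  let ψ : ↥K →* MulAut ↥W := W.normalizerMonoidHom.comp (Subgroup.inclusion (hK.le.trans s.norm))
  have hψ : ∀ (g : ↥K) (v : ↥W), (ψ g v : G) = g * v * (g : G)⁻¹ := fun g v => rfl
  have hψ1 : ∀ g : ↥K, ψ g = 1 ↔ (g : G) ∈ centralizer (W : Set G) := fun g => by
    refine ⟨fun h => mem_centralizer_iff.2 fun w hw => ?_, fun h => ?_⟩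
    · have := hψ g ⟨w, hw⟩
      rw [h] at this
      exact (mul_inv_eq_iff_eq_mul.1 this.symm).symm
    · refine MulEquiv.ext fun v => Subtype.ext ?_
      rw [hψ, ← mem_centralizer_iff.1 h v v.2, mul_inv_cancel_right]
      rfl
  let Γ : Subgroup (MulAut ↥W) := ψ.range
  haveI : Fintype ↥Γ := Fintype.ofFinite _
  have hodd : Odd (Nat.card Γ) := by
    refine Nat.not_even_iff_odd.1 fun he => ?_
    obtain ⟨γ, hγ, hγ2⟩ := Invol.exists_orderOf_two_mem he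
    obtain ⟨g, rfl⟩ := hγ
    obtain ⟨k, m, hm, hkm⟩ := Nat.exists_eq_pow_mul_and_not_dvd (orderOf_pos g).ne' 2 (by norm_num)
    have h2 : ψ (g ^ m) = 1 := by
      refine (hψ1 _).2 (mem_centralizer_iff.2 fun w hw => ?_)
      have hord : orderOf ((g ^ m : ↥K) : G) = 2 ^ k := by
        have hm0 : m ≠ 0 := fun e => hm (by rw [e]; exact dvd_zero 2)
        rw [Subgroup.orderOf_coe, orderOf_pow_of_dvd hm0 (hkm ▸ dvd_mul_left _ _), hkm,
          Nat.mul_div_cancel _ (Nat.pos_of_ne_zero hm0)]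
      exact (mul_inv_eq_iff_eq_mul.1 (hK.twoElem _ (g ^ m).2 ⟨k, hord⟩ w hw)).symm
    rw [map_pow] at h2
    exact hm (hγ2 ▸ orderOf_dvd_of_pow_eq_one h2)
  let e : ↥W →* ↥W := ∏ γ : ↥Γ, ((γ : MulAut ↥W) : ↥W ≃* ↥W).toMonoidHom
  have he : ∀ v, e v = ∏ γ : ↥Γ, (γ : MulAut ↥W) v := fun v => by
    simp [e, MonoidHom.finsetProd_apply]
  have he_left : ∀ (δ : ↥Γ) (v : ↥W), (δ : MulAut ↥W) (e v) = e v := fun δ v => by
    rw [he, map_prod]
    exact Fintype.prod_equiv (Equiv.mulLeft δ) _ _ fun γ => rfl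
  have he_right : ∀ (δ : ↥Γ) (v : ↥W), e ((δ : MulAut ↥W) v) = e v := fun δ v => by
    rw [he, he]
    exact Fintype.prod_equiv (Equiv.mulRight δ) _ _ fun γ => rfl
  have hUfix : ∀ (γ : ↥Γ) (v : ↥W), (v : G) ∈ U → (γ : MulAut ↥W) v = v := by
    rintro ⟨_, g, rfl⟩ v hv
    refine Subtype.ext ?_
    rw [hψ, ← mem_centralizer_iff.1 (hK.cent g.2) _ hv, mul_inv_cancel_right]
  have hsq : ∀ v : ↥W, v * v = 1 := fun v => Subtype.ext (s.sq _ v.2)
  have heU : ∀ v : ↥W, (v : G) ∈ U → e v = v := by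
    intro v hv
    rw [he, Finset.prod_congr rfl fun γ _ => hUfix γ v hv, Finset.prod_const, Finset.card_univ,
      ← Nat.card_eq_fintype_card]
    obtain ⟨n, hn⟩ := hodd
    rw [hn, pow_succ, pow_mul, pow_two, hsq, one_pow, one_mul]
  obtain ⟨a, ha, b, hb, haU, hbU, hab⟩ := hK.three
  -- a fixed point lies in `U`
  have hfixU : ∀ v : ↥W, (∀ γ : ↥Γ, (γ : MulAut ↥W) v = v) → (v : G) ∈ U := by
    intro v hv
    by_contra hvU
    have h1 : ∀ w ∈ W, w ∉ U → w⁻¹ * (v : G) ∈ U := by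
      intro w hw hwU
      obtain ⟨g, hg, hgu⟩ := hK.trans v v.2 w hw hvU hwU
      have := congrArg Subtype.val (hv ⟨_, ⟨g, hg⟩, rfl⟩)
      rw [hψ] at this
      rwa [this] at hgu
    have := mul_mem (h1 a ha haU) (inv_mem (h1 b hb hbU))
    rw [mul_inv_rev, inv_inv, mul_assoc, mul_inv_cancel_left] at this
    exact hab this
  have hrange : ∀ v : ↥W, (e v : G) ∈ U := fun v => hfixU _ fun γ => he_left γ v
  have hiff : ∀ v : ↥W, (v : G) ∈ U ↔ e v = v := fun v => ⟨heU v, fun h => h ▸ hrange v⟩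
  have hout : ∀ x ∈ orbitIn M W z, (x : G) ∉ U := fun x hx h =>
    hU.not_le ((centralizer_le (Set.singleton_subset_iff.2 h)).trans (s.orbit_cent hx))
  refine ⟨e, hiff, ⟨fun v => heU _ (hrange v), fun x hx c hc hc1 => ?_, fun x hx h => hout x hx ((hiff x).2 h),
    ⟨⟨a, ha⟩ * e ⟨a, ha⟩, ⟨b, hb⟩ * e ⟨b, hb⟩, ?_⟩⟩, ?_⟩
  · have hcU : (c : G) ∉ U := fun h => hc1 (by rw [← heU c h, hc])
    obtain ⟨g, hg, hgu⟩ := hK.trans x x.2 c c.2 (hout x hx) hcU
    let γ : ↥Γ := ⟨ψ ⟨g, hg⟩, ⟨g, hg⟩, rfl⟩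
    have h1 : ((c⁻¹ * (γ : MulAut ↥W) x : ↥W) : G) ∈ U := hgu
    have h2 : c⁻¹ * (γ : MulAut ↥W) x = e x := by
      rw [← heU _ h1, map_mul, map_inv, hc, inv_one, one_mul, he_right]
    have h3 : e x * c = (γ : MulAut ↥W) x := by rw [← h2, mul_comm, mul_inv_cancel_left]
    rw [h3]
    exact Setting.orbit_conj (hK.le hg) hx
  · have hne : ∀ w : ↥W, (w : G) ∉ U → w * e w ≠ 1 := fun w hw h => hw ((hiff w).2 (by
      rw [mul_eq_one_iff_eq_inv, inv_eq_of_mul_eq_one_right (hsq _)] at h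
      exact h.symm))
    refine ⟨by rw [map_mul, heU _ (hrange _), hsq], by rw [map_mul, heU _ (hrange _), hsq], hne _ haU, hne _ hbU,
      fun h => hab ?_⟩
    have h1 : (⟨a, ha⟩ : ↥W)⁻¹ * ⟨b, hb⟩ = e ⟨a, ha⟩ * (e ⟨b, hb⟩)⁻¹ := by
      rw [eq_mul_inv_iff_mul_eq, mul_assoc, ← h, inv_mul_cancel_left]
    have := mul_mem (hrange ⟨a, ha⟩) (inv_mem (hrange ⟨b, hb⟩))
    rwa [← Subgroup.coe_inv, ← Subgroup.coe_mul, ← h1] at this
  · obtain ⟨g, hg, hgu⟩ := hK.trans a ha b hb haU hbU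
    have hne : (⟨ψ ⟨g, hg⟩, ⟨g, hg⟩, rfl⟩ : ↥Γ) ≠ 1 := fun h => hab (by
      have h1 := (hψ1 ⟨g, hg⟩).1 (congrArg Subtype.val h)
      rw [← mem_centralizer_iff.1 h1 a ha, mul_inv_cancel_right] at hgu
      have := inv_mem hgu
      rwa [mul_inv_rev, inv_inv] at this)
    have hc : Nat.card Γ ≠ 1 := fun h => hne (Finite.card_le_one_iff_subsingleton.1 h.le |>.elim _ _)
    obtain ⟨p, hp, hpd⟩ := Nat.exists_prime_and_dvd hc
    haveI := Fact.mk hp
    obtain ⟨γ, hγ⟩ := exists_prime_orderOf_dvd_card' (G := ↥Γ) p hpd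
    obtain ⟨⟨_, k, rfl⟩, hk⟩ : ∃ γ : ↥Γ, orderOf γ = p := ⟨γ, hγ⟩
    refine ⟨p, hp, fun h => ?_, k, hK.le k.2, hK.cent k.2, fun h => ?_, ?_⟩
    · exact Nat.not_even_iff_odd.2 hodd (even_iff_two_dvd.2 (h ▸ hpd))
    · have h1 : ψ k = 1 := (hψ1 k).2 h
      have h2 : orderOf (ψ k) = p := by rw [← hk, ← Subgroup.orderOf_coe]
      rw [h1, orderOf_one] at h2
      exact hp.one_lt.ne h2
    · have h2 : orderOf (ψ k) = p := by rw [← hk, ← Subgroup.orderOf_coe]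
      have h1 : ψ (k ^ p) = 1 := by rw [map_pow, ← h2, pow_orderOf_eq_one]
      simpa using (hψ1 _).1 h1

end Cfsg.Agent.Fus.UniqueLocal
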