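import Mathlib
import Cfsg.Agent.Lib.Grp.Blackburn.Basic
import Cfsg.Agent.Lib.Transfer.OmegaMetacyclic
import Cfsg.Agent.Lib.Grp.RankThreeFour

/-!
# Elementary abelian images of `p`-groups of rank two

For odd `p` such an image has order at most `p ^ 3`.
-/

set_option autoImplicit false
set_option linter.style.haveILetI false

namespace Cfsg.Agent.Fus.UniqueLocal

open Subgroup

universe u v

theorem card_range_le_cube {P : Type u} [Group P] [Finite P] {E : Type v} [Group E] {p : ℕ} [hp : Fact p.Prime]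
    (hp2 : p ≠ 2) (hP : IsPGroup p P) (hrk : Cfsg.PRankLE p 2 P) (φ : P →* E) (hexp : ∀ x, φ x ^ p = 1) :
    Nat.card φ.range ≤ p ^ 3 := by
  by_cases hcyc : IsCyclic P
  · obtain ⟨g, hg⟩ := hcyc.exists_generator
    have hsub : φ.range ≤ zpowers (φ g) := by
      rintro _ ⟨x, rfl⟩
      obtain ⟨i, rfl⟩ := mem_zpowers_iff.1 (hg x)
      exact mem_zpowers_iff.2 ⟨i, (map_zpow φ g i).symm⟩
    haveI : Finite ↥(zpowers (φ g)) := by
      refine (isOfFinOrder_iff_pow_eq_one.2 ⟨p, hp.out.pos, hexp g⟩).finite_zpowers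
    refine (Nat.card_le_card_of_injective _ (inclusion_injective hsub)).trans ?_
    rw [Nat.card_zpowers]
    exact (Nat.le_of_dvd hp.out.pos (orderOf_dvd_of_pow_eq_one (hexp g))).trans (Nat.le_self_pow three_ne_zero p)
  haveI : (⊤ : Subgroup P).Normal := inferInstance
  obtain ⟨A, -, hAn, ⟨hAc, hAe⟩, hA⟩ := Transfer.exists_normal_elementary hp2 hP (⊤ : Subgroup P)
    (fun h => hcyc ((Subgroup.topEquiv : (⊤ : Subgroup P) ≃* P).isCyclic.1 h))
  haveI := hAn
  have hAcomm : ∀ a ∈ A, ∀ b ∈ A, a * b = b * a := fun a ha b hb =>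
    congrArg Subtype.val (hAc.is_comm.comm (⟨a, ha⟩ : ↥A) ⟨b, hb⟩)
  set C := centralizer (A : Set P) with hC
  have hidx : C.index ≤ p := Grp.RankThree.index_centralizer_le hP hAc hA.le
  have hmem : ∀ x : ↥C, x ^ p = 1 → (x : P) ∈ A := fun x hx =>
    Grp.Blackburn.mem_of_centralizes hrk hA hAcomm (fun a ha => hAe a ha) (by simpa using congrArg Subtype.val hx)
      fun a ha => (mem_centralizer_iff.1 x.2 a ha).symm
  have hcent : Grp.Blackburn.PCentral p ↥C := fun x hx =>
    mem_center_iff.2 fun g => Subtype.ext (mem_centralizer_iff.1 g.2 _ (hmem x hx)).symm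
  have hC2 := Grp.Blackburn.index_powSub_le hp2 (hP.to_subgroup C) hcent
  have hcard : Nat.card {x : ↥C // x ^ p = 1} ≤ p ^ 2 := hA ▸
    Nat.card_le_card_of_injective (fun x : {x : ↥C // x ^ p = 1} => (⟨(x.1 : P), hmem x.1 x.2⟩ : ↥A))
      fun a b h => Subtype.ext (Subtype.ext (congrArg (fun y : ↥A => (y : P)) h))
  let r := φ.rangeRestrict
  have hker : Grp.Blackburn.powSub p ↥C ≤ (r.comp C.subtype).ker := by
    rw [Grp.Blackburn.powSub, closure_le]
    rintro _ ⟨x, rfl⟩
    refine MonoidHom.mem_ker.2 (Subtype.ext ?_)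
    simpa [r] using hexp (x : P)
  have hmap : Nat.card ↥(C.map r) ≤ p ^ 2 := by
    refine le_trans ?_ (hC2.trans hcard)
    have h1 : Nat.card ↥(C.map r) = (r.comp C.subtype).ker.index := by
      rw [index_ker, MonoidHom.range_comp, range_subtype]
    rw [h1]
    exact Nat.le_of_dvd (Nat.pos_of_ne_zero index_ne_zero_of_finite) (index_dvd_of_le hker)
  haveI : Finite φ.range := Finite.of_surjective r φ.rangeRestrict_surjective
  calc Nat.card φ.range = Nat.card ↥(C.map r) * (C.map r).index := (card_mul_index _).symm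
    _ ≤ p ^ 2 * p := Nat.mul_le_mul hmap ((Nat.le_of_dvd (Nat.pos_of_ne_zero index_ne_zero_of_finite)
        (index_map_dvd C φ.rangeRestrict_surjective)).trans hidx)
    _ = p ^ 3 := by ring

end Cfsg.Agent.Fus.UniqueLocal
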