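import Mathlib
import Cfsg.Agent.Lib.Fus.UniqueLocal.Line
import Cfsg.Agent.Lib.Fus.UniqueLocal.Rank

/-!
# Products of two conjugates of `z` in `M` have centraliser in `M`

Otherwise at least four lines split `W`, and the elements of odd prime order on them give `M` an
elementary abelian image of order `p ^ 4`, against rank two.
-/

set_option autoImplicit false
set_option linter.style.haveILetI false

namespace Cfsg.Agent.Fus.UniqueLocal

open Subgroup
open scoped IsMulCommutative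

universe u

variable {G : Type u} [Group G] [Finite G] {T : Sylow 2 G} {M W : Subgroup G} {z : G}

omit [Finite G] in
/-- Conjugates under `M` of a maximal subgroup with centraliser outside `M`. -/
theorem Setting.isOuter_conj (s : Setting T M W z) {U : Subgroup G} (hU : IsOuter M W U) {m : G} (hm : m ∈ M) :
    IsOuter M W (U.map (MulAut.conj m : G →* G)) := by
  refine ⟨?_, Setting.conj_centralizer hm hU.not_le, fun V hV hlt => ?_⟩
  · rintro _ ⟨u, hu, rfl⟩
    exact s.conj_mem hm (hU.le hu)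
  · have hlt' : U < V.comap (MulAut.conj m : G →* G) :=
      lt_of_le_of_ne (map_le_iff_le_comap.1 hlt.le) fun e => hlt.ne (by
        rw [e]; exact map_comap_eq_self_of_surjective (MulAut.conj m).surjective V)
    have hle : V.comap (MulAut.conj m : G →* G) ≤ W := fun x hx => by
      simpa [mul_assoc] using s.inv_conj_mem hm (hV hx)
    intro c hc
    have h1 : m⁻¹ * c * m ∈ centralizer ((V.comap (MulAut.conj m : G →* G) : Subgroup G) : Set G) := by
      refine mem_centralizer_iff.2 fun x hx => ?_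
      have := mem_centralizer_iff.1 hc (m * x * m⁻¹) (by simpa using hx)
      calc x * (m⁻¹ * c * m) = m⁻¹ * (m * x * m⁻¹ * c) * m := by group
        _ = m⁻¹ * (c * (m * x * m⁻¹)) * m := by rw [this]
        _ = _ := by group
    simpa [mul_assoc] using mul_mem (mul_mem hm (hU.max _ hle hlt' h1)) (inv_mem hm)

omit [Finite G] in
theorem IsOuter.eq_of_le {M W V V' : Subgroup G} (h : IsOuter M W V) (h' : IsOuter M W V') (hle : V' ≤ V) :
    V' = V :=
  by_contra fun e => h.not_le (h'.max V h.le (lt_of_le_of_ne hle e))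

/-- Four distinct conjugates of a maximal subgroup with centraliser outside `M` contradict rank two. -/
theorem Setting.four_false (s : Setting T M W z) [IsMulCommutative ↥W]
    (hrank : ∀ p : ℕ, p.Prime → p ≠ 2 → Cfsg.PRankLE p 2 ↥M) {U : Subgroup G} (hU : IsOuter M W U)
    (hz : ∃ m ∈ M, m * z * m⁻¹ ≠ z) (mm : Fin 4 → G) (hmm : ∀ i, mm i ∈ M)
    (hVne : ∀ i j, i ≠ j → U.map (MulAut.conj (mm i) : G →* G) ≠ U.map (MulAut.conj (mm j) : G →* G)) :
    False := by
  classical
  let V : Fin 4 → Subgroup G := fun i => U.map (MulAut.conj (mm i) : G →* G)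
  have hV : ∀ i, IsOuter M W (V i) := fun i => s.isOuter_conj hU (hmm i)
  choose e hiff hsplit p₀ hp₀ hp₀2 g₀ hg₀ hg₀' hg₀'' hg₀p using fun i => s.exists_line (hV i) hz
  have hker : ∀ (i : Fin 4) (V' : Subgroup G), IsOuter M W V' → V' ≠ V i →
      ∀ c : ↥W, e i c = 1 → (c : G) ∈ V' := by
    intro i V' hV' hne' c hc
    obtain ⟨e', hiff', hsplit', -⟩ := s.exists_line hV' hz
    refine (hiff' c).2 ((hsplit i).ker_fixed (fun v => Subtype.ext (s.sq _ v.2)) hsplit' s.closure_orbitIn ?_ c hc)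
    obtain ⟨v, hv, hvi⟩ := Set.not_subset.1 (fun hle => hne' ((hV i).eq_of_le hV' hle))
    exact ⟨⟨v, hV'.le hv⟩, (hiff' _).1 hv, fun h => hvi ((hiff i _).2 h)⟩
  obtain ⟨e₁, -, -, p, hp, hp2, g, hgM, hgC, hgW, hgp⟩ := s.exists_line hU hz
  haveI := Fact.mk hp
  let gg : Fin 4 → ↥M := fun i => ⟨mm i * g * (mm i)⁻¹, mul_mem (mul_mem (hmm i) hgM) (inv_mem (hmm i))⟩
  let ψ : ↥M →* MulAut ↥W := W.normalizerMonoidHom.comp (Subgroup.inclusion s.norm)
  have hψ : ∀ (g : ↥M) (v : ↥W), (ψ g v : G) = g * v * (g : G)⁻¹ := fun g v => rfl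
  let X : Fin 4 → MulAut ↥W := fun i => ψ (gg i)
  have hXfix : ∀ i (v : ↥W), (v : G) ∈ V i → X i v = v := by
    rintro i v ⟨u, hu, huv⟩
    refine Subtype.ext ?_
    rw [hψ, ← huv]
    simp only [gg, MonoidHom.coe_coe, MulAut.conj_apply]
    calc mm i * g * (mm i)⁻¹ * (mm i * u * (mm i)⁻¹) * (mm i * g * (mm i)⁻¹)⁻¹
        = mm i * (g * u * g⁻¹) * (mm i)⁻¹ := by group
      _ = _ := by rw [← mem_centralizer_iff.1 hgC u hu, mul_inv_cancel_right]
  have hXpres : ∀ i j, i ≠ j → ∀ v : ↥W, (v : G) ∈ V j → (X i v : G) ∈ V j := by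
    intro i j hij v hv
    rw [hψ]
    have hV'' := s.isOuter_conj (hV j) (gg i).2
    suffices he : (V j).map (MulAut.conj ((gg i : ↥M) : G) : G →* G) = V j from he.le ⟨_, hv, rfl⟩
    by_contra hne'
    obtain ⟨c, d, hc, -, hc1, -⟩ := (hsplit j).two
    obtain ⟨u, hu, huc⟩ := hker j _ hV'' hne' c hc
    have hcVi := hker j (V i) (hV i) (hVne i j hij) c hc
    have h1 : u = c := by
      have h2 := congrArg Subtype.val (hXfix i c hcVi)
      rw [hψ] at h2
      exact (MulAut.conj ((gg i : ↥M) : G)).injective (huc.trans (by simpa using h2.symm))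
    exact hc1 (((hiff j c).1 (h1 ▸ hu)).symm.trans hc)
  have hXp : ∀ i, X i ^ p = 1 := by
    intro i
    rw [← map_pow]
    refine MulEquiv.ext fun v => Subtype.ext ?_
    rw [hψ]
    simp only [gg, SubmonoidClass.coe_pow, MulAut.one_apply]
    rw [conj_pow]
    have h1 := mem_centralizer_iff.1 hgp _ (s.inv_conj_mem (hmm i) v.2)
    calc mm i * g ^ p * (mm i)⁻¹ * v * (mm i * g ^ p * (mm i)⁻¹)⁻¹
        = mm i * (g ^ p * ((mm i)⁻¹ * v * mm i)) * (g ^ p)⁻¹ * (mm i)⁻¹ := by group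
      _ = mm i * ((mm i)⁻¹ * v * mm i * g ^ p) * (g ^ p)⁻¹ * (mm i)⁻¹ := by rw [h1]
      _ = _ := by group
  have hX1 : ∀ i, X i ≠ 1 := by
    intro i h
    refine hgW (mem_centralizer_iff.2 fun w hw => ?_)
    have h1 := congrArg Subtype.val (DFunLike.congr_fun h (⟨_, s.conj_mem (hmm i) hw⟩ : ↥W))
    rw [hψ] at h1
    simp only [gg, MulAut.one_apply] at h1
    have h2 : g * w * g⁻¹ = w := by
      refine (MulAut.conj (mm i)).injective ?_
      simp only [MulAut.conj_apply]
      calc mm i * (g * w * g⁻¹) * (mm i)⁻¹ = _ := by group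
        _ = mm i * w * (mm i)⁻¹ := h1
    exact (mul_inv_eq_iff_eq_mul.1 h2).symm
  have hcomm : ∀ i j, Commute (X i) (X j) := by
    intro i j
    rcases eq_or_ne i j with rfl | hij
    · rfl
    refine MulEquiv.ext fun w => ?_
    simp only [MulAut.mul_apply]
    obtain ⟨c, hc⟩ : ∃ c, c = w * e i w := ⟨_, rfl⟩
    obtain ⟨d, hd⟩ : ∃ d, d = e i w * e j (e i w) := ⟨_, rfl⟩
    have hsq : ∀ v : ↥W, v * v = 1 := fun v => Subtype.ext (s.sq _ v.2)
    have hcV : (c : G) ∈ V j := hker i _ (hV j) (hVne j i hij.symm) c (by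
      rw [hc, map_mul, (hsplit i).idem, hsq])
    have hdV : (d : G) ∈ V i := hker j _ (hV i) (hVne i j hij) d (by
      rw [hd, map_mul, (hsplit j).idem, hsq])
    have hu1 : ((e j (e i w) : ↥W) : G) ∈ V i := by
      have h1 : (e i w : G) ∈ V i := (hiff i _).2 ((hsplit i).idem w)
      have : e j (e i w) = e i w * d := by rw [hd, ← mul_assoc, hsq, one_mul]
      rw [this, Subgroup.coe_mul]
      exact mul_mem h1 hdV
    have hu2 : ((e j (e i w) : ↥W) : G) ∈ V j := (hiff j _).2 ((hsplit j).idem _)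
    have hw : w = e j (e i w) * d * c := by
      rw [hd, mul_comm (e i w), ← mul_assoc, hsq, one_mul, hc, mul_comm, mul_assoc, hsq, mul_one]
    rw [hw]
    simp only [map_mul, hXfix i _ hu1, hXfix j _ hu2, hXfix i _ hdV, hXfix j _ hcV,
      hXfix i _ (hXpres j i hij.symm d hdV), hXfix j _ (hXpres i j hij c hcV)]
  -- the group they generate has order at least `p ^ 4`
  set E := closure (Set.range X) with hE
  have hEc : IsMulCommutative ↥E := isMulCommutative_closure (by
    rintro _ ⟨i, rfl⟩ _ ⟨j, rfl⟩; exact (hcomm i j).eq)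
  have hEp : ∀ γ ∈ E, γ ^ p = 1 := by
    intro γ hγ
    induction hγ using closure_induction with
    | mem a ha => obtain ⟨i, rfl⟩ := ha; exact hXp i
    | one => exact one_pow p
    | mul a b ha hb h1 h2 =>
      have hc : Commute a b := congrArg Subtype.val (hEc.is_comm.comm (⟨a, ha⟩ : ↥E) ⟨b, hb⟩)
      rw [hc.mul_pow, h1, h2, one_mul]
    | inv a _ h1 => rw [inv_pow, h1, inv_one]
  have hXE : ∀ i, X i ∈ E := fun i => subset_closure ⟨i, rfl⟩
  have hpowfix : ∀ i (k : ℕ) (v : ↥W), (v : G) ∈ V i → (X i ^ k) v = v := by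
    intro i k v hv
    induction k with
    | zero => rfl
    | succ k ih => rw [pow_succ, MulAut.mul_apply, hXfix i v hv, ih]
  have hpowpres : ∀ i j, i ≠ j → ∀ (k : ℕ) (v : ↥W), (v : G) ∈ V j → ((X i ^ k) v : G) ∈ V j := by
    intro i j hij k v hv
    induction k with
    | zero => exact hv
    | succ k ih => rw [pow_succ', MulAut.mul_apply]; exact hXpres i j hij _ ih
  let F : (Fin 4 → Fin p) → ↥E := fun a => ⟨X 0 ^ (a 0 : ℕ) * X 1 ^ (a 1 : ℕ) * X 2 ^ (a 2 : ℕ) * X 3 ^ (a 3 : ℕ),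
    mul_mem (mul_mem (mul_mem (pow_mem (hXE 0) _) (pow_mem (hXE 1) _)) (pow_mem (hXE 2) _)) (pow_mem (hXE 3) _)⟩
  have hF : Function.Injective F := by
    intro a b hab
    have key : ∀ i (c : ↥W), e i c = 1 → (X i ^ (a i : ℕ)) c = (X i ^ (b i : ℕ)) c := by
      intro i c hc
      have hcV : ∀ j, j ≠ i → (c : G) ∈ V j := fun j hj => hker i _ (hV j) (hVne j i hj) c hc
      have hev : ∀ a' : Fin 4 → Fin p, (F a' : MulAut ↥W) c = (X i ^ (a' i : ℕ)) c := by
        intro a'
        have h1 : ∀ j, j ≠ i → (X j ^ (a' j : ℕ)) c = c := fun j hj => hpowfix j _ c (hcV j hj)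
        have h2 : ∀ j, j ≠ i → (X j ^ (a' j : ℕ)) ((X i ^ (a' i : ℕ)) c) = (X i ^ (a' i : ℕ)) c := fun j hj =>
          hpowfix j _ _ (hpowpres i j (Ne.symm hj) _ c (hcV j hj))
        fin_cases i <;> simp_all [F, MulAut.mul_apply]
      rw [← hev a, ← hev b, hab]
    funext i
    have hord : orderOf (X i) = p := orderOf_eq_prime (hXp i) (hX1 i)
    have h1 : X i ^ (a i : ℕ) = X i ^ (b i : ℕ) := by
      refine MulEquiv.ext fun w => ?_
      have hw : w = e i w * (w * e i w) := by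
        rw [mul_left_comm, show e i w * e i w = 1 from Subtype.ext (s.sq _ (e i w).2), mul_one]
      have hc : e i (w * e i w) = 1 := by
        rw [map_mul, (hsplit i).idem]; exact Subtype.ext (s.sq _ (e i w).2)
      calc (X i ^ (a i : ℕ)) w = (X i ^ (a i : ℕ)) (e i w) * (X i ^ (a i : ℕ)) (w * e i w) := by
            rw [← map_mul, ← hw]
        _ = (X i ^ (b i : ℕ)) (e i w) * (X i ^ (b i : ℕ)) (w * e i w) := by
            rw [hpowfix i _ _ ((hiff i _).2 ((hsplit i).idem w)),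
              hpowfix i _ _ ((hiff i _).2 ((hsplit i).idem w)), key i _ hc]
        _ = _ := by rw [← map_mul, ← hw]
    refine Fin.ext (pow_injOn_Iio_orderOf (x := X i) ?_ ?_ h1) <;> simp [hord]
  have hcardE : p ^ 4 ≤ Nat.card E := by
    simpa using Nat.card_le_card_of_injective F hF
  -- it is the image of a subgroup of rank two
  obtain ⟨Q⟩ : Nonempty (Sylow p ↥(E.comap ψ)) := inferInstance
  let ψE : ↥(E.comap ψ) →* ↥E := (ψ.comp (E.comap ψ).subtype).codRestrict E fun a => a.2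
  have hψE : Function.Surjective ψE := by
    intro γ
    have hle : E ≤ ψ.range := (closure_le _).2 (by rintro _ ⟨i, rfl⟩; exact ⟨gg i, rfl⟩)
    obtain ⟨a, ha⟩ := hle γ.2
    exact ⟨⟨a, show ψ a ∈ E from ha ▸ γ.2⟩, Subtype.ext ha⟩
  have hEP : IsPGroup p ↥E := fun γ => ⟨1, by rw [pow_one]; exact Subtype.ext (hEp γ γ.2)⟩
  have hsurj : (ψE.comp (Q : Subgroup ↥(E.comap ψ)).subtype).range = ⊤ := by
    rw [MonoidHom.range_comp, range_subtype, ← Sylow.coe_mapSurjective hψE]
    exact ((Q.mapSurjective hψE).3 (hEP.to_subgroup ⊤) le_top).symm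
  have hrkQ : Cfsg.PRankLE p 2 ↥(Q : Subgroup ↥(E.comap ψ)) := by
    intro A hAc hAe
    let j : ↥(Q : Subgroup ↥(E.comap ψ)) →* ↥M := (E.comap ψ).subtype.comp (Q : Subgroup ↥(E.comap ψ)).subtype
    have hj : Function.Injective j := fun a b h => Subtype.ext (Subtype.ext h)
    rw [← card_map_of_injective (K := A) (f := j) hj]
    refine hrank p hp hp2 _ ⟨⟨?_⟩⟩ ?_
    · rintro ⟨_, a, ha, rfl⟩ ⟨_, b, hb, rfl⟩
      exact Subtype.ext (by
        show j a * j b = j b * j a
        rw [← map_mul, ← map_mul]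
        exact congrArg j (congrArg Subtype.val (hAc.is_comm.comm (⟨a, ha⟩ : ↥A) ⟨b, hb⟩)))
    · rintro _ ⟨a, ha, rfl⟩
      rw [← map_pow, hAe a ha, map_one]
  have h3 := card_range_le_cube hp2 Q.isPGroup' hrkQ (ψE.comp (Q : Subgroup ↥(E.comap ψ)).subtype)
    fun a => Subtype.ext (hEp _ (ψE a).2)
  rw [hsurj, card_top] at h3
  have h4 := hcardE.trans h3
  have h5 : p ^ 3 < p ^ 4 := Nat.pow_lt_pow_right hp.one_lt (by norm_num)
  omega

/-- The product of two distinct conjugates of `z` in `M` has centraliser in `M`. -/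
theorem Setting.pair_le (s : Setting T M W z) (hidx : ∀ N : Subgroup ↥M, N.index ≠ 2)
    (hrank : ∀ p : ℕ, p.Prime → p ≠ 2 → Cfsg.PRankLE p 2 ↥M) {x y : G} (hx : x ∈ orbitSet M z)
    (hy : y ∈ orbitSet M z) (hne : x ≠ y) : centralizer ({x * y} : Set G) ≤ M := by
  classical
  haveI : Fact (Nat.Prime 2) := ⟨Nat.prime_two⟩
  haveI : IsMulCommutative ↥W := ⟨⟨fun a b => Subtype.ext (s.comm a a.2 b b.2)⟩⟩
  by_contra hbad
  have hxy : x * y ∈ W := mul_mem (s.orbit_subset hx) (s.orbit_subset hy)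
  have hxy1 : x * y ≠ 1 := fun h => hne (by
    rw [mul_eq_one_iff_eq_inv, inv_eq_of_mul_eq_one_right (s.sq y (s.orbit_subset hy))] at h
    exact h)
  have hz : ∃ m ∈ M, m * z * m⁻¹ ≠ z := by
    by_contra hcon
    push Not at hcon
    obtain ⟨m, hm, rfl⟩ := hx
    obtain ⟨k, hk, rfl⟩ := hy
    exact hne ((hcon m hm).trans (hcon k hk).symm)
  obtain ⟨U, ⟨hUW, hxU, hUC⟩, hUmax⟩ := Set.exists_max_image
    {V : Subgroup G | V ≤ W ∧ zpowers (x * y) ≤ V ∧ ¬ centralizer (V : Set G) ≤ M} (fun V => Nat.card V)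
    (Set.toFinite _) ⟨zpowers (x * y), zpowers_le.2 hxy, le_rfl, fun h => hbad fun c hc => h (by
      refine mem_centralizer_iff.2 fun v hv => ?_
      obtain ⟨i, rfl⟩ := mem_zpowers_iff.1 hv
      exact (Commute.zpow_left (mem_centralizer_singleton_iff.1 hc).symm i).eq)⟩
  have hU : IsOuter M W U := ⟨hUW, hUC, fun V hV hlt => by
    by_contra hVC
    refine hlt.ne (eq_of_le_of_card_ge hlt.le (hUmax V ⟨hV, hxU.trans hlt.le, hVC⟩))⟩
  have hU1 : U ≠ ⊥ := fun e => hxy1 (mem_bot.1 (e ▸ hxU (mem_zpowers _)))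
  -- no conjugate of `U` is normalised by the Sylow subgroup
  have hfix : ∀ m ∈ M, ¬ (T : Subgroup G) ≤ normalizer ((U.map (MulAut.conj m : G →* G) : Subgroup G) : Set G) := by
    intro m hm hT
    have hV := s.isOuter_conj hU hm
    obtain ⟨v, hv, hv2, hvc⟩ := SClosedSE.exists_central_invol T.isPGroup' (hV.le.trans s.closed.1) hT
      fun e => hU1 ((map_eq_bot_iff_of_injective _ (MulAut.conj m).injective).1 e)
    exact hV.not_le ((centralizer_le (Set.singleton_subset_iff.2 hv)).trans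
      (s.central_le v (hV.le hv) (Invol.ne_one_of_orderOf_two hv2) hvc))
  set St : Subgroup ↥M := (normalizer (U : Set G)).subgroupOf M with hSt
  have heven : Even St.index := by
    by_contra hodd
    obtain ⟨Q, hQ⟩ : ∃ Q : Sylow 2 ↥St, True := ⟨default, trivial⟩
    have hQidx : ¬ 2 ∣ ((Q : Subgroup ↥St).map St.subtype).index := by
      rw [index_map_subtype]
      exact Nat.prime_two.not_dvd_mul Q.not_dvd_index (fun h => hodd (even_iff_two_dvd.2 h))
    obtain ⟨m, hm⟩ := Invol.exists_conj_subset_sylow (T.subtype s.sylow_le).isPGroup'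
      ((Q.isPGroup'.map St.subtype).toSylow hQidx)
    refine hfix ((m : G)⁻¹) (inv_mem m.2) fun t ht => ?_
    obtain ⟨q, -, hq⟩ := hm ⟨t, s.sylow_le ht⟩ ht
    have h1 : (m : G) * t * (m : G)⁻¹ ∈ normalizer (U : Set G) := by
      have := q.2
      rw [show ((q : ↥St) : ↥M) = m * ⟨t, s.sylow_le ht⟩ * m⁻¹ from hq, hSt, mem_subgroupOf] at this
      exact this
    have h2 := le_normalizer_map (MulAut.conj (m : G)⁻¹ : G →* G) ⟨_, h1, rfl⟩
    simpa [mul_assoc] using h2
  haveI : Fintype (↥M ⧸ St) := Fintype.ofFinite _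
  have hfour : 4 ≤ Fintype.card (↥M ⧸ St) := by
    rw [← Nat.card_eq_fintype_card, ← index_eq_card]
    have h0 := St.index_ne_zero_of_finite
    have h2 := hidx St
    obtain ⟨r, hr⟩ := heven
    omega
  obtain ⟨ι⟩ : Nonempty (Fin 4 ↪ ↥M ⧸ St) :=
    Function.Embedding.nonempty_of_card_le (by simpa using hfour)
  let mm : Fin 4 → G := fun i => ((ι i).out : ↥M)
  have hmm : ∀ i, mm i ∈ M := fun i => ((ι i).out : ↥M).2
  refine s.four_false hrank hU hz mm hmm ?_
  intro i j hij e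
  refine hij (ι.injective ?_)
  refine (QuotientGroup.out_eq' (ι i)).symm.trans (Eq.trans (QuotientGroup.eq.2 ?_) (QuotientGroup.out_eq' (ι j)))
  show (((ι i).out⁻¹ * (ι j).out : ↥M) : G) ∈ normalizer (U : Set G)
  refine Invol.mem_normalizer_of_map_eq ?_
  have := congrArg (fun K : Subgroup G => K.map (MulAut.conj (mm i)⁻¹ : G →* G)) e
  simp only [map_map] at this
  rw [show ((MulAut.conj (mm i)⁻¹ : G →* G).comp (MulAut.conj (mm i) : G →* G)) = MonoidHom.id G by
    ext; simp [mul_assoc], map_id] at this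
  conv_rhs => rw [this]
  congr 1
  ext; simp [mm, mul_assoc]

end Cfsg.Agent.Fus.UniqueLocal
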