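import Mathlib
import Cfsg.Prelude.Def_Quasithin
import Cfsg.Agent.S1175
import Cfsg.Agent.S2798
import Cfsg.Agent.Lib.Local.CoreConsumers.SimpleBorel
import Cfsg.Agent.Lib.Invol.Bender.Cor.Simple
import Cfsg.Agent.Lib.Fus.UniqueLocal.Pairs
import Cfsg.Agent.Lib.Fus.UniqueLocal.Fusion

/-!
# A unique maximal 2-local subgroup controlling fusion in a quasithin simple group
-/

set_option autoImplicit false
set_option linter.style.haveILetI false

namespace Cfsg.Agent.Fus.UniqueLocal

open Subgroup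

universe u

variable {G : Type u} [Group G] [Finite G] [IsSimpleGroup G]

/-- A simple group with a strongly embedded subgroup is a Bender group. -/
theorem isBenderGroup_of_stronglyEmbedded (hna : ¬ IsMulCommutative G) {H : Subgroup G}
    (hH : Cfsg.IsStronglyEmbedded H) : Cfsg.IsBenderGroup G := by
  haveI : Fact (Nat.Prime 2) := ⟨Nat.prime_two⟩
  have hSP : Cfsg.IsStronglyPEmbedded 2 H := Invol.isStronglyPEmbedded_iff.2
    ⟨even_iff_two_dvd.1 hH.2.1, hH.1, fun g hg h => Nat.not_even_iff_odd.2 (hH.2.2 g hg) (even_iff_two_dvd.2 h)⟩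
  rcases (CoreConsumers.s1792_of hna H hSP (S2798.result H hSP)).1 with ⟨F, i1, i2, n, hn, hF, he⟩ | h | h
  · exact Or.inl ⟨F, i1, i2, Invol.Bender.Cor.charP_two_of_card hF, hF ▸ Invol.Bender.Cor.four_le_two_pow hn, he⟩
  · exact Or.inr (Or.inr h)
  · exact Or.inr (Or.inl h)

/-- The standing data together with rank two and no subgroup of index two give a Bender group. -/
theorem Setting.isBender {T : Sylow 2 G} {M W : Subgroup G} {z : G} (s : Setting T M W z)
    (hna : ¬ IsMulCommutative G) (hidx : ∀ N : Subgroup ↥M, N.index ≠ 2)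
    (hrank : ∀ p : ℕ, p.Prime → p ≠ 2 → Cfsg.PRankLE p 2 ↥M) : Cfsg.IsBenderGroup G := by
  obtain ⟨H, hH⟩ := S1175.result M s.ne_top z s.orderz (s.le_M s.zW)
    ⟨T, s.closed.1 s.zW, fun t ht => s.zc t ht⟩ (fun g hg => s.mem_of_conj_z hg) fun g hc hne =>
      s.pair_le hidx hrank ⟨1, one_mem _, by group⟩ ⟨g, s.mem_of_conj_z (s.cent_z
        (mem_centralizer_singleton_iff.2 hc.symm.eq)), rfl⟩ hne.symm
  exact isBenderGroup_of_stronglyEmbedded hna hH

/-- The theorem. -/
theorem stronglyClosed_and_bender (hna : ¬ IsMulCommutative G) (hQT : Cfsg.IsQuasithin G) (T : Sylow 2 G)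
    (M : Subgroup G) (hM : Cfsg.maxTwoLocalsContaining (T : Subgroup G) = {M})
    (h : ∀ D ∈ Cfsg.agConjFamily (T : Subgroup G), normalizer (D : Set G) ≤ M) :
    (∀ U : Subgroup G, U ≤ M → M ≤ normalizer (U : Set G) → IsPGroup 2 ↥U →
        Cfsg.IsStronglyClosed U (T : Subgroup G)) ∧
      Cfsg.IsBenderGroup G := by
  haveI : Fact (Nat.Prime 2) := ⟨Nat.prime_two⟩
  obtain ⟨hMmax, hTM⟩ : M ∈ Cfsg.maxTwoLocalsContaining (T : Subgroup G) := hM.symm ▸ rfl
  obtain ⟨R, hR2, hR1, hMR⟩ := hMmax.1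
  have hT1 : (T : Subgroup G) ≠ ⊥ := fun e => by
    obtain ⟨g, hg⟩ := Invol.exists_conj_subset_sylow hR2 T
    refine hR1 (eq_bot_iff.2 fun r hr => ?_)
    have : g * r * g⁻¹ ∈ (T : Subgroup G) := hg r hr
    rw [e, mem_bot] at this
    exact mem_bot.2 (conj_eq_one_iff.1 this)
  have hctrl : ∀ a g : G, a ∈ (T : Subgroup G) → g * a * g⁻¹ ∈ (T : Subgroup G) →
      ∃ m ∈ M, m * a * m⁻¹ = g * a * g⁻¹ := fun a g ha hg => exists_conj_eq hT1 h ha hg
  refine ⟨fun U _ hU hU2 => stronglyClosed hTM hctrl hU hU2, ?_⟩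
  have hRclosed := stronglyClosed hTM hctrl (U := R) hMR.le hR2
  obtain ⟨z, hzR, hz2, hzc⟩ := SClosedSE.exists_central_invol T.isPGroup' hRclosed.1 (hTM.trans hMR.le) hR1
  have hMtop : M ≠ ⊤ := fun e => by
    rcases (normalizer_eq_top_iff.1 (hMR ▸ e)).eq_bot_or_eq_top with h' | h'
    · exact hR1 h'
    · refine hna ⟨⟨fun a b => ?_⟩⟩
      obtain ⟨c, -, hc2, hcc⟩ := SClosedSE.exists_central_invol hR2 le_rfl le_normalizer hR1
      have hcG : c ∈ center G := mem_center_iff.2 fun g => hcc g (h'.ge (mem_top g))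
      have htop := ((inferInstance : (center G).Normal).eq_bot_or_eq_top).resolve_left
        fun e' => Invol.ne_one_of_orderOf_two hc2 (mem_bot.1 (e' ▸ hcG))
      exact mem_center_iff.1 (htop ▸ mem_top b) a
  obtain ⟨W, hW⟩ : ∃ W, W = closure (orbitSet M z) := ⟨_, rfl⟩
  have horb : ∀ x ∈ orbitSet M z, x ∈ R ∧ ∀ r ∈ R, r * x = x * r := by
    rintro _ ⟨m, hm, rfl⟩
    have hn := mem_normalizer_iff.1 (hMR.le hm)
    refine ⟨(hn z).1 hzR, fun r hr => ?_⟩
    have h1 : m⁻¹ * r * m ∈ R := (hn _).2 (by simpa [mul_assoc] using hr)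
    have := hzc _ (hRclosed.1 h1)
    calc r * (m * z * m⁻¹) = m * (m⁻¹ * r * m * z) * m⁻¹ := by group
      _ = m * (z * (m⁻¹ * r * m)) * m⁻¹ := by rw [this]
      _ = _ := by group
  have hWR : W ≤ R := hW ▸ (closure_le _).2 fun x hx => (horb x hx).1
  have hWcomm : ∀ a ∈ W, ∀ b ∈ W, a * b = b * a := fun a ha b hb => by
    have hle : W ≤ centralizer (R : Set G) :=
      hW ▸ (closure_le _).2 fun x hx => mem_centralizer_iff.2 (horb x hx).2
    exact (mem_centralizer_iff.1 (hle ha) b (hWR hb)).symm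
  have hWnorm : M ≤ normalizer (W : Set G) := fun k hk => by
    refine Invol.mem_normalizer_of_map_eq (eq_of_le_of_card_ge ?_
      (card_map_of_injective (K := W) (f := (MulAut.conj k : G →* G)) (MulAut.conj k).injective).ge)
    rw [hW, MonoidHom.map_closure]
    refine closure_mono ?_
    rintro _ ⟨x, hx, rfl⟩
    exact Setting.orbit_conj hk hx
  have hlocal : ∀ V : Subgroup G, IsPGroup 2 ↥V → V ≠ ⊥ → (T : Subgroup G) ≤ normalizer (V : Set G) →
      normalizer (V : Set G) ≤ M := by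
    intro V hV hV1 hTV
    obtain ⟨L, ⟨hL2, hVL⟩, hmax⟩ := Set.exists_max_image
      {L : Subgroup G | Cfsg.IsTwoLocal L ∧ normalizer (V : Set G) ≤ L} (fun L => Nat.card ↥L) (Set.toFinite _)
      ⟨_, ⟨V, hV, hV1, rfl⟩, le_rfl⟩
    have hL : Cfsg.IsMaximalTwoLocal L :=
      ⟨hL2, fun N hN hLN => (eq_of_le_of_card_ge hLN (hmax N ⟨hN, hVL.trans hLN⟩)).symm⟩
    have hLmem : L ∈ Cfsg.maxTwoLocalsContaining (T : Subgroup G) := ⟨hL, hTV.trans hVL⟩
    rw [hM, Set.mem_singleton_iff] at hLmem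
    exact hLmem ▸ hVL
  have s : Setting T M W z :=
    { orderz := hz2
      zW := hW ▸ subset_closure ⟨1, one_mem _, by group⟩
      zc := fun t ht => hzc t ht
      ne_top := hMtop
      sylow_le := hTM
      comm := hWcomm
      sq := fun w hw => by
        rw [hW] at hw hWcomm
        induction hw using closure_induction with
        | mem x hx => obtain ⟨m, -, rfl⟩ := hx; rw [show m * z * m⁻¹ * (m * z * m⁻¹) = m * (z * z) * m⁻¹ by group,
            Invol.mul_self_of_orderOf_two hz2, mul_one, mul_inv_cancel]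
        | one => exact one_mul 1
        | mul a b ha hb h1 h2 =>
          rw [mul_assoc a, ← mul_assoc b, hWcomm b hb a ha, mul_assoc a b b, h2, mul_one, h1]
        | inv a _ h1 => rw [← mul_inv_rev, h1, inv_one]
      norm := hWnorm
      gen := hW.le
      closed := stronglyClosed hTM hctrl hWnorm (hR2.to_le hWR)
      normalizer_le := fun V hVW hV1 hVn => hlocal V (hR2.to_le (hVW.trans hWR)) hV1 (hTM.trans hVn)
      central_le := fun v hv hv1 hvc => by
        refine le_trans (fun c hc => ?_) (hlocal (zpowers v) (hR2.to_le ((zpowers_le.2 hv).trans hWR))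
          (zpowers_ne_bot.2 hv1) fun t ht => ?_)
        · refine centralizer_le_normalizer _ (mem_centralizer_iff.2 fun x hx => ?_)
          obtain ⟨i, rfl⟩ := mem_zpowers_iff.1 hx
          exact (Commute.zpow_left (mem_centralizer_singleton_iff.1 hc).symm i).eq
        · refine centralizer_le_normalizer _ (mem_centralizer_iff.2 fun x hx => ?_)
          obtain ⟨i, rfl⟩ := mem_zpowers_iff.1 hx
          exact (Commute.zpow_left (hvc t ht).symm i).eq }
  refine s.isBender hna (index_ne_two hna hTM hctrl) fun p hp hp2 => ?_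
  exact hQT p hp hp2 M hMmax.1

end Cfsg.Agent.Fus.UniqueLocal
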